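import Groth.Agent.SubLocus.Main
import Groth.Agent.MTBridge.CentralFibres
import Groth.Agent.MTBridge.EtaleConj
import Groth.Agent.MTBridge.Centralizer
import Groth.Agent.ClosedRep.EssFreeLFP
import Groth.Agent.LimDesc.FPCancel
import Groth.Agent.S4599

/-! # Transporters of smooth subgroups with connected fibres -/

set_option autoImplicit false
set_option linter.style.haveILetI false
set_option linter.unusedSectionVars false
set_option synthInstance.maxHeartbeats 400000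
set_option maxHeartbeats 800000
set_option backward.isDefEq.respectTransparency false

universe u

open CategoryTheory CategoryTheory.Limits MonoidalCategory CartesianMonoidalCategory AlgebraicGeometry
open scoped CategoryTheory.Obj MonObj

noncomputable section

namespace Groth.Agent.SubLocus

variable {S : Scheme.{u}}

/-- factorisations in `Over S` are checked on schemes -/
theorem exists_lift_over_iff {A B C : Over S} (φ : B ⟶ C) (v : A ⟶ C) :
    (∃ l, l ≫ φ = v) ↔ ∃ m, m ≫ φ.left = v.left := by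
  refine ⟨fun ⟨l, hl⟩ => ⟨l.left, by rw [← hl, Over.comp_left]⟩, fun ⟨m, hm⟩ => ⟨Over.homMk m ?_, ?_⟩⟩
  · rw [← Over.w φ, reassoc_of% hm, Over.w v]
  · ext1
    simpa using hm

theorem left_toBC {H B : Over S} {T : Over B.left} (a : (Over.map B.hom).obj T ⟶ H) :
    (MTBridge.toBC B.hom a).left =
      (lift a (Over.homMk T.hom rfl : (Over.map B.hom).obj T ⟶ B)).left := by
  apply pullback.hom_ext <;> simp [MTBridge.toBC, Over.mapPullbackAdj]

/-- The locus over which a family of homomorphisms out of a smooth group with connected fibres lands in a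
subgroup of finite presentation is closed of finite presentation. -/
theorem exists_closed_preimage_grp {H B Z K : Over S} [GrpObj H] [Smooth H.hom] [QuasiCompact H.hom]
    [GeometricallyIrreducible H.hom] (f : H ⊗ B ⟶ Z) (j : K ⟶ Z) [Mono j]
    [LocallyOfFinitePresentation j.left] [QuasiCompact j.left] [LocallyOfFiniteType B.hom]
    (hone : ∀ (T : Over S) (b : T ⟶ B), ∃ κ, lift (1 : T ⟶ H) b ≫ f = κ ≫ j)
    (hdiv : ∀ (T : Over S) (b : T ⟶ B) (h₁ h₂ : T ⟶ H), (∃ κ, lift h₁ b ≫ f = κ ≫ j) →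
      (∃ κ, lift h₂ b ≫ f = κ ≫ j) → ∃ κ, lift (h₁⁻¹ * h₂) b ≫ f = κ ≫ j) :
    ∃ (W : Over S) (t : W ⟶ B), IsClosedImmersion t.left ∧ LocallyOfFinitePresentation t.left ∧
      ∀ (T : Over S) (x : T ⟶ B), (∃ z : T ⟶ W, z ≫ t = x) ↔
        ∀ (T' : Over S) (s : T' ⟶ T) (h : T' ⟶ H), ∃ κ, lift h (s ≫ x) ≫ f = κ ≫ j := by
  -- the preimage of `K`
  let Y₀ : Over S := Over.mk (pullback.fst f.left j.left ≫ (H ⊗ B).hom)
  let φ : Y₀ ⟶ H ⊗ B := Over.homMk (pullback.fst f.left j.left) rfl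
  have hφ : ∀ (T : Over S) (v : T ⟶ H ⊗ B), (∃ κ, v ≫ f = κ ≫ j) ↔ ∃ m, m ≫ φ.left = v.left := by
    intro T v
    constructor
    · rintro ⟨κ, hκ⟩
      exact ⟨pullback.lift v.left κ.left (by rw [← Over.comp_left, hκ, Over.comp_left]),
        pullback.lift_fst _ _ _⟩
    · rintro ⟨m, hm⟩
      have e : (m ≫ pullback.snd f.left j.left) ≫ j.left = (v ≫ f).left := by
        rw [Category.assoc, ← pullback.condition, ← Category.assoc, Over.comp_left]
        exact congrArg (· ≫ f.left) hm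
      obtain ⟨l, hl⟩ := (exists_lift_over_iff j (v ≫ f)).mpr ⟨_, e⟩
      exact ⟨l, hl.symm⟩
  -- the base changed groups
  let X : Over B.left := (Over.pullback B.hom).obj H
  letI : GrpObj X := Functor.grpObjObj (F := Over.pullback B.hom)
  let Y : Over B.left := Over.mk (pullback.fst f.left j.left ≫ X.hom)
  let i : Y ⟶ X := Over.homMk (pullback.fst f.left j.left) rfl
  have hmi : Mono i.left := by
    change Mono (pullback.fst f.left j.left)
    infer_instance
  haveI : Mono i := Over.mono_of_mono_left i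
  have hpt : ∀ (T : Over B.left) (a : (Over.map B.hom).obj T ⟶ H), (∃ l, l ≫ i = MTBridge.toBC B.hom a) ↔
      ∃ κ, lift a (Over.homMk T.hom rfl : (Over.map B.hom).obj T ⟶ B) ≫ f = κ ≫ j := by
    intro T a
    rw [exists_lift_over_iff, hφ, left_toBC]
    rfl
  obtain ⟨hY, hi⟩ : ∃ _ : GrpObj Y, IsMonHom i := by
    refine MTBridge.exists_grpObj_of_div i ?_ ?_
    · obtain ⟨a, ha⟩ := MTBridge.exists_toBC B.hom (η[X] : 𝟙_ (Over B.left) ⟶ X)
      rw [← ha, hpt]
      have h1 : a = 1 := by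
        apply ((Over.mapPullbackAdj B.hom).homEquiv _ _).injective
        refine ha.trans ?_
        rw [show η[X] = (1 : 𝟙_ (Over B.left) ⟶ X) by
          rw [Hom.one_def, toUnit_unique (toUnit _) (𝟙 _), Category.id_comp]]
        exact (map_one (MonoidHom.mk' (fun x : (Over.map B.hom).obj (𝟙_ (Over B.left)) ⟶ H =>
          MTBridge.toBC B.hom x) (MTBridge.toBC_mul B.hom))).symm
      rw [h1]
      exact hone _ _
    · intro T k₁ k₂
      obtain ⟨a₁, ha₁⟩ := MTBridge.exists_toBC B.hom (k₁ ≫ i)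
      obtain ⟨a₂, ha₂⟩ := MTBridge.exists_toBC B.hom (k₂ ≫ i)
      rw [← ha₁, ← ha₂, ← MTBridge.toBC_inv, ← MTBridge.toBC_mul, hpt]
      exact hdiv _ _ _ _ ((hpt _ _).mp ⟨k₁, ha₁.symm⟩) ((hpt _ _).mp ⟨k₂, ha₂.symm⟩)
  haveI : IsMonHom i := hi
  haveI : Smooth X.hom := MorphismProperty.pullback_snd _ _ ‹_›
  haveI : QuasiCompact X.hom := MorphismProperty.pullback_snd _ _ ‹_›
  haveI : GeometricallyIrreducible X.hom := MorphismProperty.pullback_snd _ _ ‹_›
  haveI : LocallyOfFinitePresentation i.left := MorphismProperty.pullback_fst _ _ ‹_›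
  haveI : QuasiCompact i.left := MorphismProperty.pullback_fst _ _ ‹_›
  haveI : LocallyOfFiniteType i.left := inferInstance
  haveI : LocallyOfFiniteType Y.hom := by
    rw [← Over.w i]
    infer_instance
  obtain ⟨W, t, ht, htfp, hW⟩ := exists_locus i
  refine ⟨Over.mk (t ≫ B.hom), Over.homMk t rfl, ht, htfp, fun T x => ?_⟩
  rw [exists_lift_over_iff]
  change (∃ m, m ≫ t = x.left) ↔ _
  rw [hW]
  constructor
  · rintro ⟨l, hl⟩ T' s h
    rw [hφ]
    refine ⟨pullback.lift (lift h (s ≫ x)).left s.left ?_ ≫ l, ?_⟩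
    · exact congr(($(lift_snd h (s ≫ x))).left)
    · refine (Category.assoc _ _ _).trans ((congrArg (_ ≫ ·) hl).trans ?_)
      exact pullback.lift_fst _ _ _
  · intro hx
    let T' : Over S := Over.mk (pullback.snd X.hom x.left ≫ T.hom)
    let s : T' ⟶ T := Over.homMk (pullback.snd X.hom x.left) rfl
    let h : T' ⟶ H := Over.homMk (pullback.fst X.hom x.left ≫ pullback.fst H.hom B.hom) (by
      change (_ ≫ _) ≫ H.hom = pullback.snd X.hom x.left ≫ T.hom
      rw [Category.assoc, pullback.condition, ← Over.w x, ← reassoc_of% pullback.condition (f := X.hom)]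
      rfl)
    obtain ⟨m, hm⟩ := (hφ _ _).mp (hx T' s h)
    refine ⟨m, hm.trans ?_⟩
    refine pullback.hom_ext ?_ ?_
    · exact congr(($(lift_fst h (s ≫ x))).left)
    · exact (congr(($(lift_snd h (s ≫ x))).left)).trans (pullback.condition (f := X.hom)).symm

variable {G H : Over S} [GrpObj G] [GrpObj H]

/-- conjugation of `H` by `G` -/
def conjMap (i : H ⟶ G) : H ⊗ G ⟶ G := snd H G * (fst H G ≫ i) * (snd H G)⁻¹

theorem lift_conjMap (i : H ⟶ G) {T : Over S} (h : T ⟶ H) (g : T ⟶ G) :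
    lift h g ≫ conjMap i = g * (h ≫ i) * g⁻¹ := by
  simp only [conjMap, MonObj.comp_mul, GrpObj.comp_inv, lift_fst_assoc, lift_snd]

variable [LocallyOfFiniteType G.hom] [Smooth H.hom] [QuasiCompact H.hom] [GeometricallyIrreducible H.hom]
  (i : H ⟶ G) [IsMonHom i]

/-- transporters into subgroups of finite presentation -/
theorem exists_transporter {K : Over S} [GrpObj K] (j : K ⟶ G) [IsMonHom j] [Mono j]
    [LocallyOfFinitePresentation j.left] [QuasiCompact j.left] :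
    ∃ (T : Over S) (t : T ⟶ G), IsClosedImmersion t.left ∧ LocallyOfFinitePresentation t.left ∧
      ∀ (X : Over S) (g : X ⟶ G), (∃ x : X ⟶ T, x ≫ t = g) ↔
        ∀ (X' : Over S) (x : X' ⟶ X) (h : X' ⟶ H),
          ∃ κ : X' ⟶ K, (x ≫ g) * (h ≫ i) * (x ≫ g)⁻¹ = κ ≫ j := by
  obtain ⟨W, t, ht, htfp, hW⟩ := exists_closed_preimage_grp (conjMap i) j
    (fun T b => ⟨1, by simp [lift_conjMap]⟩)
    (fun T b h₁ h₂ ⟨κ₁, e₁⟩ ⟨κ₂, e₂⟩ => ⟨κ₁⁻¹ * κ₂, by
      rw [lift_conjMap] at e₁ e₂ ⊢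
      simp only [MonObj.mul_comp, GrpObj.inv_comp, ← e₁, ← e₂]
      group⟩)
  exact ⟨W, t, ht, htfp, fun X g => (hW X g).trans (by simp only [lift_conjMap])⟩

/-- centralizers -/
theorem exists_centralizer [QuasiSeparated G.hom] :
    ∃ (Z : Over S) (t : Z ⟶ G), IsClosedImmersion t.left ∧ LocallyOfFinitePresentation t.left ∧
      ∀ (X : Over S) (g : X ⟶ G), (∃ x : X ⟶ Z, x ≫ t = g) ↔
        ∀ (X' : Over S) (x : X' ⟶ X) (h : X' ⟶ H), (x ≫ g) * (h ≫ i) = (h ≫ i) * (x ≫ g) := by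
  let δ : G ⟶ G ⊗ G := lift (𝟙 G) (𝟙 G)
  haveI : Mono δ := SplitMono.mono (f := δ) ⟨fst G G, lift_fst _ _⟩
  have hd : δ.left = pullback.diagonal G.hom := by
    refine pullback.hom_ext ?_ ?_
    · exact (congr(($(lift_fst (𝟙 G) (𝟙 G))).left)).trans (pullback.diagonal_fst G.hom).symm
    · exact (congr(($(lift_snd (𝟙 G) (𝟙 G))).left)).trans (pullback.diagonal_snd G.hom).symm
  haveI : LocallyOfFinitePresentation δ.left := hd.symm ▸ Groth.Agent.S4599.result G.hom
  haveI : QuasiCompact δ.left := hd.symm ▸ inferInstance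
  let f : H ⊗ G ⟶ G ⊗ G := lift (conjMap i) (fst H G ≫ i)
  have hf : ∀ (T : Over S) (h : T ⟶ H) (g : T ⟶ G),
      (∃ κ, lift h g ≫ f = κ ≫ δ) ↔ g * (h ≫ i) = (h ≫ i) * g := by
    intro T h g
    simp only [f, δ, comp_lift, Category.comp_id, lift_conjMap, lift_fst_assoc]
    constructor
    · rintro ⟨κ, hκ⟩
      have h1 := congrArg (· ≫ fst _ _) hκ
      have h2 := congrArg (· ≫ snd _ _) hκ
      simp only [lift_fst, lift_snd] at h1 h2
      exact mul_inv_eq_iff_eq_mul.mp (h1.trans h2.symm)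
    · intro e
      exact ⟨h ≫ i, by rw [mul_inv_eq_iff_eq_mul.mpr e]⟩
  obtain ⟨W, t, ht, htfp, hW⟩ := exists_closed_preimage_grp f δ
    (fun T b => (hf T 1 b).mpr (by simp))
    (fun T b h₁ h₂ e₁ e₂ => (hf T _ b).mpr (by
      rw [MonObj.mul_comp, GrpObj.inv_comp]
      exact ((show Commute b (h₁ ≫ i) from (hf T h₁ b).mp e₁).inv_right.mul_right
        (show Commute b (h₂ ≫ i) from (hf T h₂ b).mp e₂))))
  exact ⟨W, t, ht, htfp, fun X g => (hW X g).trans (by simp only [hf])⟩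

theorem exists_normalizer [QuasiSeparated G.hom] [Mono i] :
    ∃ (N : Over S) (n : N ⟶ G), IsClosedImmersion n.left ∧ LocallyOfFinitePresentation n.left ∧
      ∀ (T : Over S) (g : T ⟶ G), (∃ z : T ⟶ N, z ≫ n = g) ↔
        ∀ (T' : Over S) (t : T' ⟶ T) (h : T' ⟶ H),
          (∃ h' : T' ⟶ H, (t ≫ g) * (h ≫ i) * (t ≫ g)⁻¹ = h' ≫ i) ∧
          (∃ h' : T' ⟶ H, (t ≫ g)⁻¹ * (h ≫ i) * (t ≫ g) = h' ≫ i) := by
  have hw : i.left ≫ G.hom = H.hom := Over.w i
  haveI : QuasiCompact (i.left ≫ G.hom) := hw ▸ ‹QuasiCompact H.hom›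
  haveI : QuasiCompact i.left := QuasiCompact.of_comp i.left G.hom
  haveI : LocallyOfFinitePresentation H.hom := inferInstance
  haveI : LocallyOfFinitePresentation (i.left ≫ G.hom) := hw ▸ ‹LocallyOfFinitePresentation H.hom›
  haveI : LocallyOfFinitePresentation i.left := Groth.Agent.LimDesc.lfp_of_comp i.left G.hom
  obtain ⟨T₁, t₁, h₁c, h₁f, h₁⟩ := exists_transporter i i
  let t₂ : T₁ ⟶ G := t₁ ≫ GrpObj.inv (X := G)
  haveI : IsIso (GrpObj.inv (X := G)).left := inferInstanceAs (IsIso ((Over.forget _).map (GrpObj.inv (X := G))))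
  haveI : IsClosedImmersion t₂.left := inferInstanceAs (IsClosedImmersion (t₁.left ≫ (GrpObj.inv (X := G)).left))
  haveI : LocallyOfFinitePresentation t₂.left :=
    inferInstanceAs (LocallyOfFinitePresentation (t₁.left ≫ (GrpObj.inv (X := G)).left))
  have h₂ : ∀ (X : Over S) (g : X ⟶ G), (∃ z, z ≫ t₂ = g) ↔ ∃ z, z ≫ t₁ = g⁻¹ := by
    intro X g
    refine ⟨fun ⟨z, hz⟩ => ⟨z, ?_⟩, fun ⟨z, hz⟩ => ⟨z, ?_⟩⟩
    · rw [← hz, ← Category.assoc, ← Hom.inv_def, _root_.inv_inv]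
    · rw [← Category.assoc, ← Hom.inv_def, hz, _root_.inv_inv]
  obtain ⟨N, n, hn, hnf, hN⟩ := ClosedRep.exists_closed_inter_lfp t₁ t₂
  refine ⟨N, n, hn, hnf, fun T g => ?_⟩
  rw [hN, h₂, h₁, h₁]
  simp only [GrpObj.comp_inv, _root_.inv_inv]
  exact ⟨fun p T' t h => ⟨p.1 T' t h, p.2 T' t h⟩, fun p => ⟨fun T' t h => (p T' t h).1, fun T' t h => (p T' t h).2⟩⟩

end Groth.Agent.SubLocus
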