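import Groth.Agent.MTBridge.TransporterEq
import Groth.Agent.MTBridge.MonoTori
import Groth.Agent.MTBridge.Centralizer
import Groth.Agent.ClosedRep.EssFreeLFP
import Groth.Agent.LimDesc.FPCancel

/-! # Centralizers and normalizers of closed subgroups of multiplicative type -/

set_option autoImplicit false
set_option linter.style.haveILetI false
set_option backward.isDefEq.respectTransparency false
set_option maxHeartbeats 800000
set_option synthInstance.maxHeartbeats 400000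

universe u

open CategoryTheory Limits MonoidalCategory CartesianMonoidalCategory AlgebraicGeometry
open scoped CategoryTheory.Obj MonObj

noncomputable section

namespace Groth.Agent.SubLocus

open Groth.Agent.MTBridge in
/-- centralizer and normalizer of a closed subgroup of multiplicative type in a smooth group are smooth closed -/
theorem exists_centralizer_normalizer_multType {S : Scheme.{u}} (G Q : Over S) [GrpObj G] [GrpObj Q]
    [Smooth G.hom] (q : Q ⟶ G) [IsMonHom q] [IsClosedImmersion q.left] (hQ : SGA3x.IsMultTypeFT Q) :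
    (∃ (Z : Over S) (z : Z ⟶ G), IsClosedImmersion z.left ∧ Smooth Z.hom ∧
      ∀ (X : Over S) (g : X ⟶ G), (∃ t : X ⟶ Z, t ≫ z = g) ↔
        ∀ (X' : Over S) (x : X' ⟶ X) (h : X' ⟶ Q), (x ≫ g) * (h ≫ q) = (h ≫ q) * (x ≫ g)) ∧
    ∃ (N : Over S) (n : N ⟶ G), IsClosedImmersion n.left ∧ Smooth N.hom ∧
      ∀ (X : Over S) (g : X ⟶ G), (∃ t : X ⟶ N, t ≫ n = g) ↔
        ∀ (X' : Over S) (x : X' ⟶ X) (h : X' ⟶ Q),
          (∃ h' : X' ⟶ Q, (x ≫ g) * (h ≫ q) * (x ≫ g)⁻¹ = h' ≫ q) ∧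
          (∃ h' : X' ⟶ Q, (x ≫ g)⁻¹ * (h ≫ q) * (x ≫ g) = h' ≫ q) := by
  have hQ' := locally_of_isMultTypeFT' Q hQ
  haveI : IsAffineHom Q.hom := MTBridge.isAffineHom Q hQ
  haveI : LocallyOfFinitePresentation Q.hom := locallyOfFinitePresentation_of_isMultTypeFT Q hQ
  haveI : LocallyOfFinitePresentation (q.left ≫ G.hom) := (Over.w q).symm ▸ ‹LocallyOfFinitePresentation Q.hom›
  haveI : LocallyOfFinitePresentation q.left := Groth.Agent.LimDesc.lfp_of_comp q.left G.hom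
  haveI : Mono q := Over.mono_of_mono_left q
  have hef := MTBridge.isEssentiallyFree Q hQ'
  obtain ⟨T₁, t₁, h₁c, h₁f, h₁⟩ := exists_closed_transporter_incl hef q q
  let t₂ : T₁ ⟶ G := t₁ ≫ GrpObj.inv (X := G)
  haveI : IsIso (GrpObj.inv (X := G)).left := inferInstanceAs (IsIso ((Over.forget _).map (GrpObj.inv (X := G))))
  haveI : IsClosedImmersion t₂.left := inferInstanceAs (IsClosedImmersion (t₁.left ≫ (GrpObj.inv (X := G)).left))
  haveI : LocallyOfFinitePresentation t₂.left :=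
    inferInstanceAs (LocallyOfFinitePresentation (t₁.left ≫ (GrpObj.inv (X := G)).left))
  have h₂ : ∀ (X : Over S) (g : X ⟶ G), (∃ z, z ≫ t₂ = g) ↔ ∃ z, z ≫ t₁ = g⁻¹ := by
    intro X g
    refine ⟨fun ⟨z, hz⟩ => ⟨z, ?_⟩, fun ⟨z, hz⟩ => ⟨z, ?_⟩⟩
    · rw [← hz, ← Category.assoc, ← Hom.inv_def, _root_.inv_inv]
    · rw [← Category.assoc, ← Hom.inv_def, hz, _root_.inv_inv]
  obtain ⟨N, n, hn, hnf, hN⟩ := ClosedRep.exists_closed_inter_lfp t₁ t₂
  have hN' : ∀ (X : Over S) (g : X ⟶ G), (∃ t : X ⟶ N, t ≫ n = g) ↔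
      ∀ (X' : Over S) (x : X' ⟶ X) (h : X' ⟶ Q),
        (∃ h' : X' ⟶ Q, (x ≫ g) * (h ≫ q) * (x ≫ g)⁻¹ = h' ≫ q) ∧
        (∃ h' : X' ⟶ Q, (x ≫ g)⁻¹ * (h ≫ q) * (x ≫ g) = h' ≫ q) := by
    intro X g
    rw [hN, h₂, h₁, h₁]
    simp only [GrpObj.comp_inv, _root_.inv_inv]
    exact ⟨fun p T' t h => ⟨p.1 T' t h, p.2 T' t h⟩,
      fun p => ⟨fun T' t h => (p T' t h).1, fun T' t h => (p T' t h).2⟩⟩
  haveI : Mono n := Over.mono_of_mono_left n
  haveI : IsClosedImmersion (lift (𝟙 Q) (𝟙 Q)).left := isClosedImmersion_lift_id Q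
  haveI : LocallyOfFinitePresentation (lift (𝟙 Q) (𝟙 Q)).left := lfp_lift_id Q
  obtain ⟨c, hc⟩ := ((hN' N n).1 ⟨𝟙 N, Category.id_comp n⟩ (Q ⊗ N) (snd Q N) (fst Q N)).1
  obtain ⟨W, w, hw, hwf, hW⟩ := ClosedRep.exists_closed_preimage_essFree_lfp
    (lift c (fst Q N)) (lift (𝟙 Q) (𝟙 Q)) hef
  haveI : IsClosedImmersion (w ≫ n).left := inferInstanceAs (IsClosedImmersion (w.left ≫ n.left))
  haveI : LocallyOfFinitePresentation (w ≫ n).left :=
    inferInstanceAs (LocallyOfFinitePresentation (w.left ≫ n.left))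
  have hZ : ∀ (X : Over S) (g : X ⟶ G), (∃ t : X ⟶ W, t ≫ w ≫ n = g) ↔
      ∀ (X' : Over S) (x : X' ⟶ X) (h : X' ⟶ Q), (x ≫ g) * (h ≫ q) = (h ≫ q) * (x ≫ g) := by
    intro X g
    have key : ∀ (y : X ⟶ N), y ≫ n = g → ∀ (X' : Over S) (x : X' ⟶ X) (h : X' ⟶ Q),
        ((∃ b, lift h (x ≫ y) ≫ lift c (fst Q N) = b ≫ lift (𝟙 Q) (𝟙 Q)) ↔
          (x ≫ g) * (h ≫ q) = (h ≫ q) * (x ≫ g)) := by
      intro y hy X' x h
      have e1 : lift h (x ≫ y) ≫ c ≫ q = (x ≫ g) * (h ≫ q) * (x ≫ g)⁻¹ := by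
        rw [← hc]
        simp only [MonObj.comp_mul, GrpObj.comp_inv, lift_fst_assoc, lift_snd_assoc, Category.assoc, hy]
      rw [comp_lift, lift_fst]
      constructor
      · rintro ⟨b, hb⟩
        rw [comp_lift, Category.comp_id] at hb
        have hb1 := congrArg (fun k => k ≫ fst Q Q) hb
        have hb2 := congrArg (fun k => k ≫ snd Q Q) hb
        simp only [lift_fst, lift_snd] at hb1 hb2
        have : lift h (x ≫ y) ≫ c = h := hb1.trans hb2.symm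
        rw [← Category.assoc, this] at e1
        exact (mul_inv_eq_iff_eq_mul.mp e1.symm)
      · intro e
        refine ⟨h, ?_⟩
        rw [comp_lift, Category.comp_id, show lift h (x ≫ y) ≫ c = h from (cancel_mono q).1 (by
          rw [Category.assoc, e1, mul_inv_eq_iff_eq_mul.mpr e])]
    constructor
    · rintro ⟨t, ht⟩ X' x h
      rw [← Category.assoc] at ht
      exact (key _ ht X' x h).1 (((hW X (t ≫ w)).1 ⟨t, rfl⟩) X' x h)
    · intro e
      obtain ⟨y, hy⟩ := (hN' X g).2 fun X' x h =>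
        ⟨⟨h, by rw [e X' x h, mul_inv_cancel_right]⟩,
          ⟨h, by rw [_root_.mul_assoc, ← e X' x h, inv_mul_cancel_left]⟩⟩
      obtain ⟨t, ht⟩ := (hW X y).2 fun X' x h => (key y hy X' x h).2 (e X' x h)
      exact ⟨t, by rw [← hy, ← ht, Category.assoc]⟩
  refine ⟨⟨W, w ≫ n, inferInstance, smooth_of_lift (w ≫ n) fun A _ I hI b g₀ h0 => ?_, hZ⟩,
    N, n, hn, smooth_of_lift n fun A _ I hI b g₀ h0 => ?_, hN'⟩
  · obtain ⟨g, hg, hg'⟩ := exists_transporter_lift hQ' ‹Smooth G.hom› q q A I hI b g₀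
      (fun X' x h => mul_inv_eq_iff_eq_mul.mpr ((hZ _ _).1 h0 X' x h))
    exact ⟨g, hg, (hZ _ _).2 fun X' x h => mul_inv_eq_iff_eq_mul.mp (hg' X' x h)⟩
  · obtain ⟨g, hg, hg1, hg2⟩ := exists_transporterEq_lift hQ' hQ' ‹Smooth G.hom› q q A I hI b g₀
      (fun X' x h => ((hN' _ _).1 h0 X' x h).1) (fun X' x h => ((hN' _ _).1 h0 X' x h).2)
    exact ⟨g, hg, (hN' _ _).2 fun X' x h => ⟨hg1 X' x h, hg2 X' x h⟩⟩

end Groth.Agent.SubLocus
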