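import Groth.Agent.ClosedRep.GeomIntegral
import Groth.Agent.S4953
import Groth.Agent.Unibranch.SectionComp
import Groth.Agent.Rigid.FibreTranslate

/-! # Neighbourhoods with geometrically connected fibres around a section of a smooth morphism -/

set_option autoImplicit false
set_option backward.isDefEq.respectTransparency false

universe u

open CategoryTheory CategoryTheory.Limits AlgebraicGeometry

namespace Groth.Agent.SubLocus

/-- in a locally irreducible space, connected components are irreducible -/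
theorem isIrreducible_connectedComponent {F : Type*} [TopologicalSpace F]
    (h : ∀ x : F, ∃ W : Set F, IsOpen W ∧ IsIrreducible W ∧ x ∈ W) (a : F) :
    IsIrreducible (connectedComponent a) := by
  haveI : ConnectedSpace ↥(connectedComponent a) := isConnected_iff_connectedSpace.mp isConnected_connectedComponent
  haveI : IrreducibleSpace ↥(connectedComponent a) := GrpField.irreducibleSpace_of_nhds fun x => by
    obtain ⟨W, hW, hWi, hxW⟩ := h x.1
    have hsub : W ⊆ connectedComponent a := by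
      have := hWi.isConnected.isPreconnected.subset_connectedComponent hxW
      rwa [connectedComponent_eq x.2]
    refine ⟨Subtype.val ⁻¹' W, hW.preimage continuous_subtype_val, ?_, hxW⟩
    refine ⟨⟨x, hxW⟩, fun u v hu hv hun hvn => ?_⟩
    obtain ⟨u', hu', rfl⟩ := isOpen_induced_iff.mp hu
    obtain ⟨v', hv', rfl⟩ := isOpen_induced_iff.mp hv
    obtain ⟨p, hp, hp'⟩ := hun
    obtain ⟨q, hq, hq'⟩ := hvn
    obtain ⟨z, hz, hz1, hz2⟩ := hWi.2 u' v' hu' hv' ⟨p.1, hp, hp'⟩ ⟨q.1, hq, hq'⟩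
    exact ⟨⟨z, hsub hz⟩, hz, hz1, hz2⟩
  have h2 := (IrreducibleSpace.isIrreducible_univ ↥(connectedComponent a)).image Subtype.val
    continuous_subtype_val.continuousOn
  rwa [Set.image_univ, Subtype.range_coe] at h2

/-- schemes smooth over a field are locally irreducible -/
theorem exists_irreducible_nhd {k : Type u} [Field k] {F : Scheme.{u}}
    (q : F ⟶ Spec (CommRingCat.of k)) [Smooth q] (z : F) :
    ∃ W : Set F, IsOpen W ∧ IsIrreducible W ∧ z ∈ W := by
  have : IsLocallyNoetherian F := LocallyOfFiniteType.isLocallyNoetherian q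
  have := SmLocalST.isRegularLocalRing_stalk_of_smooth_field q z
  have : IsDomain (F.presheaf.stalk z) := Groth.Agent.S0558.result _
  obtain ⟨U, hzU, hU⟩ := Groth.Agent.S2258.result F z (by
    rw [nilradical_eq_zero]; exact Ideal.isPrime_bot)
  exact ⟨U, U.2, hU, hzU⟩

instance smooth_fibre {X S : Scheme.{u}} (f : X ⟶ S) [Smooth f] (s : S) :
    Smooth (f.fiberToSpecResidueField s) := MorphismProperty.pullback_snd _ _ ‹_›

/-- affine charts compatible with a section -/
theorem exists_section_chart {X S : Scheme.{u}} (f : X ⟶ S) (σ : S ⟶ X) (hσ : σ ≫ f = 𝟙 S) (s : S)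
    (O : X.Opens) (hO : σ s ∈ O) :
    ∃ (N : S.Opens) (W : X.Opens) (e : W ≤ f ⁻¹ᵁ N), s ∈ N ∧ IsAffineOpen N ∧ IsAffineOpen W ∧
      W ≤ O ∧ ∃ τ : N.toScheme ⟶ W.toScheme, τ ≫ W.ι = N.ι ≫ σ ∧ τ ≫ f.resLE N W e = 𝟙 _ := by
  have hfσ : ∀ a, f (σ a) = a := fun a => congrArg (fun m : S ⟶ S => m a) hσ
  obtain ⟨N₀, hN₀, hsN₀, -⟩ := exists_isAffineOpen_mem_and_subset (X := S) (x := s) (U := ⊤) trivial
  obtain ⟨W₀, hW₀, hσW₀, hle⟩ := exists_isAffineOpen_mem_and_subset (X := X) (x := σ s)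
    (U := O ⊓ f ⁻¹ᵁ N₀) ⟨hO, show f (σ s) ∈ N₀ by rw [hfσ]; exact hsN₀⟩
  obtain ⟨r, hrle, hsr⟩ := hN₀.exists_basicOpen_le (V := σ ⁻¹ᵁ W₀) ⟨s, hσW₀⟩ hsN₀
  have hle' : W₀ ≤ f ⁻¹ᵁ N₀ := fun x hx => (hle hx).2
  refine ⟨S.basicOpen r, W₀ ⊓ f ⁻¹ᵁ S.basicOpen r, inf_le_right, hsr, hN₀.basicOpen r,
    ?_, fun x hx => (hle hx.1).1, ?_⟩
  · rw [← Scheme.basicOpen_appLE f W₀ N₀ hle' r]
    exact hW₀.basicOpen _
  · let W := W₀ ⊓ f ⁻¹ᵁ S.basicOpen r
    have hr : Set.range ((S.basicOpen r).ι ≫ σ) ⊆ Set.range W.ι := by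
      rintro _ ⟨a, rfl⟩
      rw [Scheme.Opens.range_ι, Scheme.Hom.comp_apply]
      exact ⟨hrle a.2, show f (σ _) ∈ S.basicOpen r by rw [hfσ]; exact a.2⟩
    refine ⟨IsOpenImmersion.lift W.ι _ hr, IsOpenImmersion.lift_fac _ _ _, ?_⟩
    rw [← cancel_mono (S.basicOpen r).ι, Category.assoc, Scheme.Hom.resLE_comp_ι,
      IsOpenImmersion.lift_fac_assoc, Category.assoc, hσ, Category.comp_id, Category.id_comp]

set_option maxHeartbeats 1000000 in
/-- A smooth morphism with a section has, near it, geometrically integral fibres. -/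
theorem exists_geomIntegral_chart {X S : Scheme.{u}} (f : X ⟶ S) [Smooth f] (σ : S ⟶ X)
    (hσ : σ ≫ f = 𝟙 S) (s : S) :
    ∃ (N : S.Opens) (W : X.Opens) (e : W ≤ f ⁻¹ᵁ N), s ∈ N ∧ IsAffineOpen N ∧ IsAffineOpen W ∧
      GeometricallyIntegral (f.resLE N W e) := by
  obtain ⟨N₁, W₁, e₁, hs₁, hN₁, hW₁, -, τ, hτ, hτf⟩ := exists_section_chart f σ hσ s ⊤ trivial
  have : IsAffine W₁.toScheme := hW₁
  have : IsAffine N₁.toScheme := hN₁
  let f₁ := f.resLE N₁ W₁ e₁
  have hsm : Smooth f₁ := by dsimp [f₁]; infer_instance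
  let C : N₁.toScheme → Set W₁.toScheme := fun y => connectedComponentIn (f₁.base ⁻¹' {y}) (τ.base y)
  have hred : ∀ y : N₁.toScheme, ∀ x' : ↥(f₁.fiber y), FBase.IsGeomReducedAt (f₁.fiberToSpecResidueField y) x' := by
    intro y x' K _ _ z _
    haveI : Smooth (FBase.bcStr (f₁.fiberToSpecResidueField y) K) := MorphismProperty.pullback_snd _ _ inferInstance
    haveI := Groth.Agent.SmoothRed.isReduced_of_smooth_scheme (R := CommRingCat.of K)
      (FBase.bcStr (f₁.fiberToSpecResidueField y) K)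
    infer_instance
  let s₁ : N₁.toScheme := ⟨s, hs₁⟩
  have hint := Groth.Agent.S4953.result f₁ τ hτf s₁ (fun x' _ => hred s₁ x')
  have hτs : τ s₁ ∈ interior (MoreMor.sectionComponents f₁ τ) :=
    hint (mem_connectedComponentIn (show f₁ (τ s₁) = s₁ from
      congrArg (fun m : N₁.toScheme ⟶ N₁.toScheme => m s₁) hτf))
  obtain ⟨N₂, W₂, e₂, hs₂, hN₂, hW₂, hW₂le, τ₂, hτ₂, hτ₂f⟩ := exists_section_chart f₁ τ hτf s₁
    ⟨interior (MoreMor.sectionComponents f₁ τ), isOpen_interior⟩ hτs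
  -- the chart inside `X` and `S`
  let N := N₁.ι ''ᵁ N₂
  let W := W₁.ι ''ᵁ W₂
  have e : W ≤ f ⁻¹ᵁ N := by
    rintro _ ⟨w, hw, rfl⟩
    exact ⟨f₁ w, e₂ hw, congrArg (fun m : W₁.toScheme ⟶ S => m w) (f.resLE_comp_ι e₁)⟩
  refine ⟨N, W, e, ⟨s₁, hs₂, rfl⟩, hN₂.image_of_isOpenImmersion N₁.ι, hW₂.image_of_isOpenImmersion W₁.ι, ?_⟩
  -- geometric connectedness of `g`
  let g := f₁.resLE N₂ W₂ e₂
  have hsmg : Smooth g := by dsimp [g]; infer_instance
  have hgc : GeometricallyConnected g := by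
    rw [GeometricallyConnected.iff_geometricallyConnected_fiber]
    intro y
    let σy : Spec (N₂.toScheme.residueField y) ⟶ g.fiber y :=
      pullback.lift (N₂.toScheme.fromSpecResidueField y ≫ τ₂) (𝟙 _)
        (by rw [Category.assoc, hτ₂f, Category.comp_id, Category.id_comp])
    have hconn : ConnectedSpace (g.fiber y) := by
      let y₁ : N₁.toScheme := N₂.ι y
      have hτy : τ y₁ = W₂.ι (τ₂ y) :=
        (congrArg (fun m : N₂.toScheme ⟶ W₁.toScheme => m y) hτ₂).symm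
      have hgy : ∀ a : W₂.toScheme, g a = y → f₁ (W₂.ι a) = y₁ := fun a ha => by
        rw [← Scheme.Hom.comp_apply, ← Scheme.Hom.resLE_comp_ι f₁ e₂, Scheme.Hom.comp_apply]
        exact congrArg N₂.ι ha
      have hirr : IsPreirreducible ((W₂ : Set W₁.toScheme) ∩ C y₁) := by
        obtain ⟨p, hp⟩ : τ y₁ ∈ Set.range (f₁.fiberι y₁) := (f₁.range_fiberι y₁).ge
          (congrArg (fun m : N₁.toScheme ⟶ N₁.toScheme => m y₁) hτf)
        have hC : C y₁ = f₁.fiberι y₁ '' connectedComponent p := by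
          rw [Unibranch.fiberι_image_connectedComponent, hp]
        rw [hC, Set.inter_comm]
        have h1 := ((isIrreducible_connectedComponent
          (fun z => exists_irreducible_nhd (f₁.fiberToSpecResidueField y₁) z) p).image _
          (f₁.fiberι y₁).continuous.continuousOn).2
        intro u v hu hv hun hvn
        obtain ⟨a, ⟨ha, haW⟩, hau⟩ := hun
        obtain ⟨b, ⟨hb, hbW⟩, hbv⟩ := hvn
        obtain ⟨c, hc, ⟨hcW, hcu⟩, -, hcv⟩ := h1 ((W₂ : Set W₁.toScheme) ∩ u) ((W₂ : Set W₁.toScheme) ∩ v)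
          (W₂.2.inter hu) (W₂.2.inter hv) ⟨a, ha, haW, hau⟩ ⟨b, hb, hbW, hbv⟩
        exact ⟨c, ⟨hc, hcW⟩, hcu, hcv⟩
      have himg : W₂.ι '' (g ⁻¹' {y}) = (W₂ : Set W₁.toScheme) ∩ C y₁ := by
        ext a
        constructor
        · rintro ⟨b, hb, rfl⟩
          refine ⟨b.2, ?_⟩
          have h0 := (interior_subset (hW₂le b.2) : W₂.ι b ∈ MoreMor.sectionComponents f₁ τ)
          rw [GeomFib.mem_sectionComponents_iff] at h0
          have h1 : f₁ (W₂.ι b) = y₁ := hgy b hb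
          change W₂.ι b ∈ connectedComponentIn (f₁.base ⁻¹' {y₁}) (τ.base y₁)
          rw [← h1]; exact h0
        · rintro ⟨haW, haC⟩
          refine ⟨⟨a, haW⟩, N₂.ι.isOpenEmbedding.injective ?_, rfl⟩
          change N₂.ι (g _) = y₁
          rw [← Scheme.Hom.comp_apply, Scheme.Hom.resLE_comp_ι, Scheme.Hom.comp_apply]
          exact connectedComponentIn_subset (f₁.base ⁻¹' {y₁}) (τ.base y₁) haC
      have hpre : _root_.IsPreconnected (g ⁻¹' {y}) := by
        rw [← W₂.ι.isOpenEmbedding.isEmbedding.isInducing.isPreconnected_image, himg]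
        exact hirr.isPreconnected
      have hne : (g ⁻¹' {y}).Nonempty :=
        ⟨τ₂ y, congrArg (fun m : N₂.toScheme ⟶ N₂.toScheme => m y) hτ₂f⟩
      have : ConnectedSpace ↥(g ⁻¹' {y}) := isConnected_iff_connectedSpace.mp ⟨hne, hpre⟩
      exact (g.fiberHomeo y).connectedSpace_iff.mpr this
    exact Rigid.geometricallyConnected_of_section (g.fiberToSpecResidueField y) σy (pullback.lift_snd _ _ _)
  have hgi := ClosedRep.GeomIntegral.geometricallyIntegral_of_smooth g
  haveI : MorphismProperty.RespectsIso @GeometricallyIntegral.{u} := by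
    rw [GeometricallyIntegral.eq_geometrically]; infer_instance
  have hg' : (W₁.ι.isoImage W₂).hom ≫ f.resLE N W e = g ≫ (N₁.ι.isoImage N₂).hom := by
    rw [← cancel_mono N.ι, Category.assoc, Category.assoc, Scheme.Hom.resLE_comp_ι,
      Scheme.Hom.isoImage_hom_ι_assoc, Scheme.Hom.isoImage_hom_ι, ← Category.assoc g,
      Scheme.Hom.resLE_comp_ι, Category.assoc, Scheme.Hom.resLE_comp_ι]
  exact (MorphismProperty.arrow_mk_iso_iff @GeometricallyIntegral
    (Arrow.isoMk (W₁.ι.isoImage W₂) (N₁.ι.isoImage N₂) hg')).mp hgi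

end Groth.Agent.SubLocus
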