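import Groth.Agent.SubLocus.Chart
import Groth.Agent.ClosedRep.EssFree
import Groth.Agent.KoszulLib.Flat

/-! # The locus where a monomorphism of groups is an isomorphism is closed of finite presentation -/

set_option autoImplicit false
set_option backward.isDefEq.respectTransparency false

universe u

open CategoryTheory CategoryTheory.Limits MonoidalCategory CartesianMonoidalCategory AlgebraicGeometry
open Topology Groth.Agent.ClosedRep

namespace Groth.Agent.SubLocus

variable {S : Scheme.{u}} {X Y : Over S}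

theorem top_comap_eq_bot_iff {T V : Scheme.{u}} (h : T ⟶ V) :
    (⊤ : V.IdealSheafData).comap h = ⊥ ↔ IsEmpty T := by
  rw [Scheme.IdealSheafData.comap_top]
  constructor
  · intro htb
    refine ⟨fun t => ?_⟩
    have h1 := congrArg (fun J : T.IdealSheafData => (J.support : Set T)) htb
    simp only [Scheme.IdealSheafData.support_top, Scheme.IdealSheafData.support_bot] at h1
    exact (Set.ext_iff.mp h1 t).mpr trivial
  · intro
    exact ClosedRep.eq_bot_of_jointly_surjective _ (ι := PEmpty.{u + 1})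
      (W := PEmpty.elim) (fun k => k.elim) (fun x => isEmptyElim x) (fun k => k.elim)

/-- finite presentation of a closed subscheme descends along a faithfully flat map of affines -/
theorem lfp_of_comap {V N : Scheme.{u}} [IsAffine V] [IsAffine N] (b : N ⟶ V) [Flat b] [Surjective b]
    (J : V.IdealSheafData) [LocallyOfFinitePresentation (J.comap b).subschemeι] :
    LocallyOfFinitePresentation J.subschemeι := by
  refine GrpdFit.lfp_subschemeι _ fun x => ⟨⟨⊤, isAffineOpen_top V⟩, trivial, ?_⟩
  have hb := HTopV.fg_ker_ideal (J.comap b).subschemeι ⟨⊤, isAffineOpen_top N⟩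
  rw [Scheme.IdealSheafData.ker_subschemeι, FpqcDescent.ideal_comap_of_isAffine] at hb
  let : Algebra Γ(V, ⊤) Γ(N, ⊤) := b.appTop.hom.toAlgebra
  have : Module.Flat Γ(V, ⊤) Γ(N, ⊤) := HasRingHomProperty.appTop (P := @Flat) b inferInstance
  have hs : Surjective (Spec.map b.appTop) :=
    (MorphismProperty.arrow_mk_iso_iff @Surjective (arrowIsoSpecΓOfIsAffine b)).mp ‹_›
  have : Module.FaithfullyFlat Γ(V, ⊤) Γ(N, ⊤) :=
    Module.FaithfullyFlat.of_comap_surjective hs.1
  exact Groth.Agent.KoszulLib.fg_of_map_fg Γ(N, ⊤) hb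

variable [GrpObj X] [GrpObj Y] (i : Y ⟶ X) [IsMonHom i] [Mono i]
  [LocallyOfFiniteType Y.hom] [GeometricallyIrreducible X.hom] [Smooth X.hom]
  [QuasiCompact X.hom] [LocallyOfFinitePresentation i.left] [QuasiCompact i.left]

theorem exists_locus :
    ∃ (T : Scheme.{u}) (t : T ⟶ S), IsClosedImmersion t ∧ LocallyOfFinitePresentation t ∧
      ∀ (S' : Scheme.{u}) (g : S' ⟶ S), (∃ g' : S' ⟶ T, g' ≫ t = g) ↔ P i g := by
  have hloc : ∀ s : S, ∃ V : S.Opens, s ∈ V ∧ ∃ J : V.toScheme.IdealSheafData,
      Reps (fun _ h => P i (h ≫ V.ι)) J ∧ LocallyOfFinitePresentation J.subschemeι := by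
    intro s
    by_cases hs : s ∈ E i
    · obtain ⟨N, hN, ρ, n₀, hρ, hρn, J, hJ, hJfp⟩ := exists_chart_E i s hs
      obtain ⟨S₀, hS₀, hsS₀, -⟩ := exists_isAffineOpen_mem_and_subset (X := S) (x := s) (U := ⊤) trivial
      obtain ⟨r, hrle, hnr⟩ := (isAffineOpen_top N).exists_basicOpen_le (V := ρ ⁻¹ᵁ S₀)
        ⟨n₀, show ρ n₀ ∈ S₀ from hρn.symm ▸ hsS₀⟩ trivial
      have hO : IsOpen (ρ '' (N.basicOpen r : Set N)) := ρ.isOpenMap _ (N.basicOpen r).2
      obtain ⟨r', hrle', hsr'⟩ := hS₀.exists_basicOpen_le (V := ⟨_, hO⟩) ⟨s, n₀, hnr, hρn⟩ hsS₀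
      let V := S.basicOpen r'
      let N₁ := N.basicOpen r ⊓ ρ ⁻¹ᵁ V
      have hN₁ : IsAffineOpen N₁ := by
        dsimp only [N₁, V]
        rw [← Scheme.basicOpen_appLE ρ (N.basicOpen r) S₀ hrle r']
        exact ((isAffineOpen_top N).basicOpen r).basicOpen _
      have : IsAffine V.toScheme := hS₀.basicOpen r'
      have : IsAffine N₁.toScheme := hN₁
      let b : N₁.toScheme ⟶ V.toScheme := ρ.resLE V N₁ inf_le_right
      have hb : b ≫ V.ι = N₁.ι ≫ ρ := ρ.resLE_comp_ι _
      have : Flat b := by dsimp [b]; infer_instance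
      have : Surjective b := ⟨fun v => by
        obtain ⟨n, hn, hnv⟩ := hrle' v.2
        refine ⟨⟨n, hn, show ρ n ∈ V by rw [hnv]; exact v.2⟩, V.ι.isOpenEmbedding.injective ?_⟩
        exact (congrArg (fun m : N₁.toScheme ⟶ S => m ⟨n, _⟩) hb).trans hnv⟩
      obtain ⟨JV, hJV⟩ := exists_reps_of_fpqc b (P := fun _ h => P i (h ≫ V.ι)) (J₁ := J.comap N₁.ι)
        (fun T h hP => P_descend i (pullback.fst h b) (h ≫ V.ι) (by simpa only [Category.assoc] using hP))
        (fun T T' a h hP => by simpa only [Category.assoc] using P_comp i a _ hP)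
        (fun T h => by
          have := (hJ.comap N₁.ι) h
          simpa only [Category.assoc, hb] using this)
      refine ⟨V, hsr', JV, hJV, ?_⟩
      have e : JV.comap b = J.comap N₁.ι := Reps.eq (hJV.comap b) (fun T h => by
        have := (hJ.comap N₁.ι) h
        simpa only [Category.assoc, hb] using this)
      have : LocallyOfFinitePresentation (JV.comap b).subschemeι := by
        rw [e, ← Scheme.IdealSheafData.comapIso_hom_fst]
        infer_instance
      exact lfp_of_comap b JV
    · obtain ⟨V, hV, hsV, hVle⟩ := exists_isAffineOpen_mem_and_subset (X := S) (x := s)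
        (U := ⟨(E i)ᶜ, (isClosed_E i).isOpen_compl⟩) hs
      refine ⟨V, hsV, ⊤, fun T h => ?_, GrpdFit.lfp_subschemeι _ fun x => ?_⟩
      · rw [top_comap_eq_bot_iff]
        constructor
        · intro hP
          exact ⟨fun t => hVle (h t).2 (P_mem_E i hP t)⟩
        · intro
          have : IsEmpty ↥(pullback X.hom (h ≫ V.ι)) :=
            Function.isEmpty (fun p => pullback.snd X.hom (h ≫ V.ι) p)
          exact ⟨(isInitialOfIsEmpty).to _, (isInitialOfIsEmpty).hom_ext _ _⟩
      · obtain ⟨W, hW, hxW, -⟩ := exists_isAffineOpen_mem_and_subset (x := x) (U := (⊤ : V.toScheme.Opens)) trivial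
        refine ⟨⟨W, hW⟩, hxW, ?_⟩
        rw [Scheme.IdealSheafData.ideal_top]
        exact ⟨{1}, by simp⟩
  choose V hsV J hJ hfp using hloc
  have hcov : TopologicalSpace.IsOpenCover V :=
    TopologicalSpace.IsOpenCover.mk (top_le_iff.mp fun s _ => TopologicalSpace.Opens.mem_iSup.mpr ⟨s, hsV s⟩)
  obtain ⟨K, hK⟩ := exists_reps_of_openCover (P := P i) (isLocal_P i)
    (S.openCoverOfIsOpenCover V hcov) fun s => ⟨J s, hJ s⟩
  refine ⟨K.subscheme, K.subschemeι, inferInstance, ?_, fun S' g => hK.factors_iff g⟩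
  refine IsZariskiLocalAtTarget.of_openCover (P := @LocallyOfFinitePresentation.{u})
    (S.openCoverOfIsOpenCover V hcov) fun s => ?_
  change LocallyOfFinitePresentation (pullback.snd K.subschemeι (V s).ι)
  have e : K.comap (V s).ι = J s := Reps.eq (hK.comap (V s).ι) (hJ s)
  have h1 := hfp s
  rw [← e, ← Scheme.IdealSheafData.comapIso_hom_fst,
    MorphismProperty.cancel_left_of_respectsIso @LocallyOfFinitePresentation] at h1
  rw [← pullbackSymmetry_hom_comp_fst,
    MorphismProperty.cancel_left_of_respectsIso @LocallyOfFinitePresentation]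
  exact h1

end Groth.Agent.SubLocus
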