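import Groth.Agent.SubLocus.DenseFamily
import Groth.Prelude.Def_AlgGrp

/-! # Loci tested on dense torsion subgroups -/

set_option autoImplicit false
set_option linter.style.haveILetI false
set_option linter.unusedSectionVars false
set_option backward.isDefEq.respectTransparency false
set_option maxHeartbeats 800000
set_option synthInstance.maxHeartbeats 400000

universe u

open CategoryTheory CategoryTheory.Limits MonoidalCategory CartesianMonoidalCategory AlgebraicGeometry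
open scoped MonObj
open Groth.Agent.ClosedRep

noncomputable section

namespace Groth.Agent.SubLocus

variable {S : Scheme.{u}} (H : Over S) [GrpObj H]

/-- points killed by `n` factor through the torsion kernel -/
theorem exists_torsion_iff (n : ℕ) {X : Over S} (h : X ⟶ H) :
    (∃ l, l ≫ pullback.snd η[H].left (𝟙 H ^ n : H ⟶ H).left = h.left) ↔ h ^ n = 1 := by
  have e1 : (1 : X ⟶ H).left = X.hom ≫ η[H].left := by
    rw [Hom.one_def, Over.comp_left, Over.toUnit_left]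
  have e2 : (h ^ n : X ⟶ H) = h ≫ (𝟙 H ^ n : H ⟶ H) := by
    rw [MonObj.comp_pow, Category.comp_id]
  constructor
  · rintro ⟨l, hl⟩
    ext1
    rw [e1, e2, Over.comp_left, ← hl, Category.assoc, ← pullback.condition, ← Category.assoc]
    congr 1
    have w : l ≫ pullback.snd η[H].left (𝟙 H ^ n : H ⟶ H).left ≫ (𝟙 H ^ n : H ⟶ H).left ≫ H.hom = X.hom := by
      rw [Over.w (𝟙 H ^ n : H ⟶ H), ← Category.assoc, hl, Over.w h]
    rw [← w, ← pullback.condition_assoc, Over.w η[H]]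
    exact (Category.comp_id _).symm.trans (congrArg (_ ≫ ·) rfl)
  · intro hn
    exact ⟨pullback.lift X.hom h.left (by rw [← e1, ← hn, e2, Over.comp_left]), pullback.lift_snd _ _ _⟩

/-- the torsion family -/
abbrev torsMap (E : Set ℕ) (n : ULift.{u} ↥E) :
    pullback η[H].left (𝟙 H ^ n.down.1 : H ⟶ H).left ⟶ H.left :=
  pullback.snd η[H].left (𝟙 H ^ n.down.1 : H ⟶ H).left

theorem exists_torsMap_factor {m n : ℕ} (h : m ∣ n) :
    ∃ a, a ≫ pullback.snd η[H].left (𝟙 H ^ n : H ⟶ H).left = pullback.snd η[H].left (𝟙 H ^ m : H ⟶ H).left := by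
  let K : Over S := Over.mk (pullback.snd η[H].left (𝟙 H ^ m : H ⟶ H).left ≫ H.hom)
  let x : K ⟶ H := Over.homMk (pullback.snd η[H].left (𝟙 H ^ m : H ⟶ H).left) rfl
  obtain ⟨c, rfl⟩ := h
  have : x ^ m = 1 := (exists_torsion_iff H m x).mp ⟨𝟙 _, Category.id_comp _⟩
  exact (exists_torsion_iff H (m * c) x).mpr (by rw [pow_mul, this, one_pow])

variable (E : Set ℕ)

theorem torsMap_hyps (hE : E.Nonempty) (hEmul : ∀ m ∈ E, ∀ n ∈ E, m * n ∈ E) :
    Nonempty (ULift.{u} ↥E) ∧ ∀ i j : ULift.{u} ↥E, ∃ k,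
      (∃ a, a ≫ torsMap H E k = torsMap H E i) ∧ ∃ b, b ≫ torsMap H E k = torsMap H E j := by
  obtain ⟨n, hn⟩ := hE
  exact ⟨⟨⟨⟨n, hn⟩⟩⟩, fun i j => ⟨⟨⟨_, hEmul _ i.down.2 _ j.down.2⟩⟩,
    exists_torsMap_factor H (dvd_mul_right _ _), exists_torsMap_factor H (dvd_mul_left _ _)⟩⟩

variable [IsLocallyNoetherian S] [LocallyOfFiniteType H.hom]
  (ha : ∀ n ∈ E, IsFinite ((pullback.snd η[H].left (𝟙 H ^ n : H ⟶ H).left) ≫ H.hom) ∧
    Flat ((pullback.snd η[H].left (𝟙 H ^ n : H ⟶ H).left) ≫ H.hom))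
  (hb : ∀ (s : S) (V : (H.hom.fiber s).Opens) (t : Γ(H.hom.fiber s, V)),
    (∀ n ∈ E, (MoreMor.fiberMap (pullback.snd η[H].left (𝟙 H ^ n : H ⟶ H).left) H.hom s).app V t = 0) → t = 0)


theorem comap_comap_ker_iff {W : Scheme.{u}} {G₀ K : Over S} {P : Scheme.{u}} (f : P ⟶ G₀.left) (k : K ⟶ G₀)
    [IsClosedImmersion k.left] (u : W ⟶ P) :
    (k.left.ker.comap f).comap u = ⊥ ↔ ∃ m, m ≫ k.left = u ≫ f := by
  rw [← Scheme.IdealSheafData.comap_comp, ClosedRep.comap_eq_bot_iff]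
  exact ⟨fun h => ⟨IsClosedImmersion.lift k.left (u ≫ f) h, IsClosedImmersion.lift_fac _ _ _⟩,
    fun ⟨m, hm⟩ => hm ▸ Scheme.Hom.le_ker_comp _ _⟩

theorem exists_lift_left_iff {A B C : Over S} (φ : B ⟶ C) (v : A ⟶ C) :
    (∃ l, v = l ≫ φ) ↔ ∃ m, m ≫ φ.left = v.left := by
  refine ⟨fun ⟨l, hl⟩ => ⟨l.left, by rw [hl, Over.comp_left]⟩, fun ⟨m, hm⟩ => ⟨Over.homMk m ?_, ?_⟩⟩
  · rw [← Over.w φ, reassoc_of% hm, Over.w v]
  · ext1
    simpa using hm.symm

include ha hb in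
/-- Preimages of closed subschemes tested on dense torsion are closed. -/
theorem exists_closed_preimage_torsion (hE : E.Nonempty) (hEmul : ∀ m ∈ E, ∀ n ∈ E, m * n ∈ E)
    {B G₀ K : Over S} (f : H ⊗ B ⟶ G₀) (k : K ⟶ G₀) [IsClosedImmersion k.left] :
    (∃ (W : Over S) (w : W ⟶ B), IsClosedImmersion w.left ∧ ∀ (T : Over S) (x : T ⟶ B),
      (∃ z, z ≫ w = x) ↔ ∀ (T' : Over S) (s : T' ⟶ T) (h : T' ⟶ H), ∃ κ, lift h (s ≫ x) ≫ f = κ ≫ k) ∧
    (AlgebraicGeometry.IsNoetherian B.left → ∃ n ∈ E, ∀ (T : Over S) (x : T ⟶ B),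
      (∀ (T' : Over S) (s : T' ⟶ T) (h : T' ⟶ H), ∃ κ, lift h (s ≫ x) ≫ f = κ ≫ k) ↔
        ∀ (T' : Over S) (s : T' ⟶ T) (h : T' ⟶ H), h ^ n = 1 → ∃ κ, lift h (s ≫ x) ≫ f = κ ≫ k) := by
  haveI : ∀ i : ULift.{u} ↥E, IsFinite (torsMap H E i ≫ H.hom) := fun i => (ha _ i.down.2).1
  haveI : ∀ i : ULift.{u} ↥E, Flat (torsMap H E i ≫ H.hom) := fun i => (ha _ i.down.2).2
  have hb' : ∀ s : S, ∀ (V : (H.hom.fiber s).Opens) (t : Γ(H.hom.fiber s, V)),
      (∀ i, (MoreMor.fiberMap (torsMap H E i) H.hom s).app V t = 0) → t = 0 :=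
    fun s V t ht => hb s V t fun n hn => ht ⟨⟨n, hn⟩⟩
  obtain ⟨hne, hdir⟩ := torsMap_hyps H E hE hEmul
  let I : (pullback H.hom B.hom).IdealSheafData := k.left.ker.comap f.left
  have hfull : ∀ (T : Over S) (x : T ⟶ B), ZeroOn H.hom B.hom I x.left ↔
      ∀ (T' : Over S) (s : T' ⟶ T) (h : T' ⟶ H), ∃ κ, lift h (s ≫ x) ≫ f = κ ≫ k := by
    intro T x
    refine (comap_comap_ker_iff f.left k _).trans ⟨?_, fun hx => ?_⟩
    · rintro ⟨m, hm⟩ T' s h
      rw [exists_lift_left_iff]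
      refine ⟨pullback.lift h.left s.left (by rw [← Category.assoc, ← Over.comp_left, Over.w, Over.w]) ≫ m, ?_⟩
      refine (Category.assoc _ _ _).trans ((congrArg (_ ≫ ·) hm).trans ((Category.assoc _ _ _).symm.trans ?_))
      change _ = (lift h (s ≫ x)).left ≫ f.left
      congr 1
      apply pullback.hom_ext <;> simp
    · let T' : Over S := Over.mk (pullback.snd H.hom (x.left ≫ B.hom) ≫ T.hom)
      let s : T' ⟶ T := Over.homMk (pullback.snd H.hom (x.left ≫ B.hom)) rfl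
      let h : T' ⟶ H := Over.homMk (pullback.fst H.hom (x.left ≫ B.hom)) (by
        change _ = pullback.snd H.hom (x.left ≫ B.hom) ≫ T.hom
        rw [pullback.condition, Over.w x])
      obtain ⟨m, hm⟩ := (exists_lift_left_iff _ _).mp (hx T' s h)
      refine ⟨m, hm.trans ?_⟩
      rw [Over.comp_left]
      congr 1
  constructor
  · obtain ⟨J, hJ, -⟩ := exists_reps_dense H.hom B.hom (torsMap H E) hb' I
    refine ⟨Over.mk ((⨆ i, J i).subschemeι ≫ B.hom), Over.homMk (⨆ i, J i).subschemeι rfl,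
      inferInstanceAs (IsClosedImmersion (⨆ i, J i).subschemeι), fun T x => ?_⟩
    rw [← hfull, ← hJ.factors_iff x.left]
    exact ⟨fun ⟨z, hz⟩ => ⟨z.left, by rw [← hz]; rfl⟩, fun ⟨m, hm⟩ => ⟨Over.homMk m (by
      change m ≫ (⨆ i, J i).subschemeι ≫ B.hom = T.hom
      rw [reassoc_of% hm, Over.w x]), Over.OverMorphism.ext hm⟩⟩
  · intro hN
    obtain ⟨i, hi⟩ := exists_index_dense H.hom B.hom (torsMap H E) hb' hdir I
    refine ⟨i.down.1, i.down.2, fun T x => ?_⟩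
    rw [← hfull, hi x.left]
    refine (comap_comap_ker_iff f.left k _).trans ⟨?_, fun hx => ?_⟩
    · rintro ⟨m, hm⟩ T' s h hn
      obtain ⟨l, hl⟩ := (exists_torsion_iff H _ h).mpr hn
      rw [exists_lift_left_iff]
      refine ⟨pullback.lift l s.left (by
        rw [← Category.assoc, ← Category.assoc, ← Over.comp_left, Over.w, hl, Over.w]) ≫ m, ?_⟩
      refine (Category.assoc _ _ _).trans ((congrArg (_ ≫ ·) hm).trans ((Category.assoc _ _ _).symm.trans ?_))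
      change _ = (lift h (s ≫ x)).left ≫ f.left
      congr 1
      apply pullback.hom_ext <;> simp [famMap, hl]
    · let T' : Over S := Over.mk (pullback.snd (torsMap H E i ≫ H.hom) (x.left ≫ B.hom) ≫ T.hom)
      let s : T' ⟶ T := Over.homMk (pullback.snd (torsMap H E i ≫ H.hom) (x.left ≫ B.hom)) rfl
      let h : T' ⟶ H := Over.homMk (pullback.fst (torsMap H E i ≫ H.hom) (x.left ≫ B.hom) ≫ torsMap H E i) (by
        change _ = pullback.snd (torsMap H E i ≫ H.hom) (x.left ≫ B.hom) ≫ T.hom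
        rw [Category.assoc, pullback.condition, Over.w x])
      obtain ⟨m, hm⟩ := (exists_lift_left_iff _ _).mp (hx T' s h
        ((exists_torsion_iff H _ h).mp ⟨pullback.fst _ _, rfl⟩))
      refine ⟨m, hm.trans ?_⟩
      rw [Over.comp_left]
      congr 1

end Groth.Agent.SubLocus
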