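import Groth.Agent.S3036
import Groth.Agent.GrpField.Fibres
import Groth.Agent.GrpBasic.Open
import Groth.Agent.LimDesc.FPCancel
import Mathlib.AlgebraicGeometry.Morphisms.FlatDescent
import Mathlib.AlgebraicGeometry.Morphisms.Etale

/-! # Monomorphisms of group schemes: fibres, and the group trick -/

set_option autoImplicit false
set_option backward.isDefEq.respectTransparency false

universe u

open CategoryTheory CategoryTheory.Limits MonoidalCategory CartesianMonoidalCategory MonObj AlgebraicGeometry

namespace Groth.Agent.SubLocus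

variable {S : Scheme.{u}} {X Y : Over S}

/-- the square of a base changed morphism -/
theorem isPullback_map (i : Y ⟶ X) {S' : Scheme.{u}} (g : S' ⟶ S) :
    IsPullback ((Over.pullback g).map i).left (pullback.fst Y.hom g) (pullback.fst X.hom g) i.left := by
  refine IsPullback.of_right ?_ ?_ (IsPullback.of_hasPullback X.hom g).flip
  · rw [Over.w i]
    have e : ((Over.pullback g).map i).left ≫ pullback.snd X.hom g = pullback.snd Y.hom g :=
      pullback.lift_snd _ _ _
    rw [e]
    exact (IsPullback.of_hasPullback Y.hom g).flip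
  · exact pullback.lift_fst _ _ _

/-- factoring through a monomorphism -/
theorem exists_lift_iff_isIso {A B C : Scheme.{u}} (i : B ⟶ C) [Mono i] (a : A ⟶ C) :
    (∃ l, l ≫ i = a) ↔ IsIso (pullback.snd i a) := by
  constructor
  · rintro ⟨l, hl⟩
    have : IsSplitEpi (pullback.snd i a) :=
      ⟨⟨⟨pullback.lift l (𝟙 A) (by rw [hl, Category.id_comp]), pullback.lift_snd _ _ _⟩⟩⟩
    exact isIso_of_mono_of_isSplitEpi _
  · intro
    exact ⟨inv (pullback.snd i a) ≫ pullback.fst i a, by
      rw [Category.assoc, pullback.condition, IsIso.inv_hom_id_assoc]⟩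

theorem isPullback_comp {A A' B C : Scheme.{u}} (i : B ⟶ C) (a : A ⟶ C) (b : A' ⟶ A) :
    ∃ m, IsPullback m (pullback.snd i (b ≫ a)) (pullback.snd i a) b := by
  refine ⟨pullback.lift (pullback.fst i (b ≫ a)) (pullback.snd i (b ≫ a) ≫ b)
    (by rw [pullback.condition, Category.assoc]), ?_⟩
  refine IsPullback.of_right ?_ (pullback.lift_snd _ _ _) (IsPullback.of_hasPullback i a)
  rw [pullback.lift_fst]
  exact IsPullback.of_hasPullback i (b ≫ a)

/-- factorisation descends -/
theorem exists_lift_descend {A A' B C : Scheme.{u}} (i : B ⟶ C) [Mono i] (a : A ⟶ C) (b : A' ⟶ A)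
    [Surjective b] [Flat b] (hb : QuasiCompact b ∨ LocallyOfFinitePresentation b)
    (h : ∃ l, l ≫ i = b ≫ a) : ∃ l, l ≫ i = a := by
  rw [exists_lift_iff_isIso] at h ⊢
  obtain ⟨m, hm⟩ := isPullback_comp i a b
  rcases hb with hb | hb
  · exact (MorphismProperty.isomorphisms.iff _).1 (MorphismProperty.of_isPullback_of_descendsAlong
      (P := MorphismProperty.isomorphisms Scheme.{u}) (Q := @Surjective ⊓ @Flat ⊓ @QuasiCompact)
      hm.flip ⟨⟨inferInstance, inferInstance⟩, hb⟩ ((MorphismProperty.isomorphisms.iff _).2 h))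
  · exact (MorphismProperty.isomorphisms.iff _).1 (MorphismProperty.of_isPullback_of_descendsAlong
      (P := MorphismProperty.isomorphisms Scheme.{u}) (Q := @Surjective ⊓ @Flat ⊓ @LocallyOfFinitePresentation)
      hm.flip ⟨⟨inferInstance, inferInstance⟩, hb⟩ ((MorphismProperty.isomorphisms.iff _).2 h))

/-- factorisation through a monomorphism is local -/
theorem exists_lift_of_cover {A B C : Scheme.{u}} (i : B ⟶ C) [Mono i] (a : A ⟶ C)
    (𝒰 : Scheme.OpenCover.{u} A) (h : ∀ k, ∃ l, l ≫ i = 𝒰.f k ≫ a) : ∃ l, l ≫ i = a := by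
  choose l hl using h
  refine ⟨Scheme.Cover.glueMorphisms 𝒰 l (fun x y => ?_), Scheme.Cover.hom_ext 𝒰 _ _ fun k => ?_⟩
  · rw [← cancel_mono i, Category.assoc, Category.assoc, hl, hl, pullback.condition_assoc]
  · rw [Scheme.Cover.ι_glueMorphisms_assoc, hl]

/-- monicity of left components -/
theorem mono_left (i : Y ⟶ X) [Mono i] : Mono i.left := inferInstance

section Grp

variable [GrpObj X] [GrpObj Y] (i : Y ⟶ X) [IsMonHom i] [Mono i]
  [LocallyOfFiniteType X.hom] [LocallyOfFiniteType Y.hom] [QuasiCompact i.left]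

/-- the fibres of a monomorphism of groups are closed immersions -/
theorem isClosedImmersion_fibre (s : S) :
    IsClosedImmersion ((Over.pullback (S.fromSpecResidueField s)).map i).left := by
  let k := S.fromSpecResidueField s
  letI : GrpObj ((Over.pullback k).obj Y) := Functor.grpObjObj (F := Over.pullback k)
  letI : GrpObj ((Over.pullback k).obj X) := Functor.grpObjObj (F := Over.pullback k)
  haveI : Mono ((Over.pullback k).map i) := Functor.map_mono (Over.pullback k) i
  haveI : LocallyOfFiniteType ((Over.pullback k).obj Y).hom := MorphismProperty.pullback_snd _ _ ‹_›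
  haveI : LocallyOfFiniteType ((Over.pullback k).obj X).hom := MorphismProperty.pullback_snd _ _ ‹_›
  haveI : QuasiCompact ((Over.pullback k).map i).left :=
    MorphismProperty.of_isPullback (P := @QuasiCompact) (isPullback_map i k).flip ‹_›
  exact Groth.Agent.S3036.result (S.residueField s) ((Over.pullback k).obj Y) ((Over.pullback k).obj X)
    ((Over.pullback k).map i)

/-- points of a fibre of `Y` -/
theorem exists_fibre_point {f : Y.left ⟶ S} (y : Y.left) :
    ∃ a : ↥(pullback f (S.fromSpecResidueField (f y))), pullback.fst f (S.fromSpecResidueField (f y)) a = y := by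
  obtain ⟨a, ha, -⟩ := Scheme.Pullback.exists_preimage_pullback (f := f)
    (g := S.fromSpecResidueField (f y)) y (IsLocalRing.closedPoint (S.residueField (f y)))
    (Scheme.fromSpecResidueField_apply _ _).symm
  exact ⟨a, ha⟩

theorem fibre_inducing (s : S) :
    Topology.IsInducing (fun a => i.left (pullback.fst Y.hom (S.fromSpecResidueField s) a)) := by
  have := isClosedImmersion_fibre i s
  have e : (fun a => i.left (pullback.fst Y.hom (S.fromSpecResidueField s) a)) =
      (pullback.fst X.hom (S.fromSpecResidueField s)) ∘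
        ((Over.pullback (S.fromSpecResidueField s)).map i).left := by
    funext a
    exact (congrArg (fun m : _ ⟶ X.left => m a) (isPullback_map i (S.fromSpecResidueField s)).w).symm
  rw [e]
  exact (X.hom.fiberι s).isEmbedding.isInducing.comp
    (Scheme.Hom.isClosedEmbedding _).isEmbedding.isInducing

/-- specialisations in a fibre lift -/
theorem specializes_of_fibre {y y' : Y.left} (h : Y.hom y = Y.hom y') (hs : i.left y ⤳ i.left y') :
    y ⤳ y' := by
  obtain ⟨a, ha⟩ := exists_fibre_point (f := Y.hom) y
  obtain ⟨a', ha', -⟩ := Scheme.Pullback.exists_preimage_pullback (f := Y.hom)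
    (g := S.fromSpecResidueField (Y.hom y)) y' (IsLocalRing.closedPoint (S.residueField (Y.hom y)))
    (by rw [Scheme.fromSpecResidueField_apply]; exact h.symm)
  have : a ⤳ a' := (fibre_inducing i (Y.hom y)).specializes_iff.mp (by
    change i.left _ ⤳ i.left _
    rwa [ha, ha'])
  have := this.map (pullback.fst Y.hom (S.fromSpecResidueField (Y.hom y))).continuous
  rwa [ha, ha'] at this

theorem hom_apply (y : Y.left) : X.hom (i.left y) = Y.hom y :=
  congrArg (fun m : Y.left ⟶ S => m y) (Over.w i)

/-- the image of a fibre is stable under specialisation -/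
theorem mem_range_of_specializes {y : Y.left} {x : X.left} (hx : X.hom x = Y.hom y) (h : i.left y ⤳ x) :
    x ∈ Set.range i.left := by
  let s := Y.hom y
  let k := S.fromSpecResidueField s
  have := isClosedImmersion_fibre i s
  obtain ⟨a, ha⟩ := exists_fibre_point (f := Y.hom) y
  obtain ⟨b, hb, -⟩ := Scheme.Pullback.exists_preimage_pullback (f := X.hom)
    (g := k) x (IsLocalRing.closedPoint (S.residueField s))
    (by rw [Scheme.fromSpecResidueField_apply]; exact hx)
  have hm : ∀ c, (pullback.fst X.hom k) (((Over.pullback k).map i).left c) =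
      i.left (pullback.fst Y.hom k c) := fun c =>
    congrArg (fun m : _ ⟶ X.left => m c) (isPullback_map i k).w
  have h1 : ((Over.pullback k).map i).left a ⤳ b := by
    refine (X.hom.fiberι s).isEmbedding.isInducing.specializes_iff.mp ?_
    change pullback.fst X.hom k _ ⤳ pullback.fst X.hom k b
    rw [hm, hb, ha]
    exact h
  obtain ⟨c, hc⟩ := h1.mem_closed (Scheme.Hom.isClosedEmbedding _).isClosed_range ⟨a, rfl⟩
  exact ⟨pullback.fst Y.hom k c, (hm c).symm.trans ((congrArg _ hc).trans hb)⟩

end Grp

section Trick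

variable [GrpObj X] [GrpObj Y] (i : Y ⟶ X) [IsMonHom i] [Mono i]
  [Flat X.hom] [LocallyOfFinitePresentation X.hom] [GeometricallyIrreducible X.hom]

/-- The group trick: a subgroup containing the image of a flat morphism meeting every fibre is everything. -/
theorem isIso_left_of_factors {W : Over S} (w : W ⟶ X) [Flat w.left] [LocallyOfFinitePresentation w.left]
    (hW : ∀ x : X.left, ∃ v : W.left, W.hom v = X.hom x) (l : W ⟶ Y) (hl : l ≫ i = w) :
    IsIso i.left := by
  let q : W ⊗ W ⟶ X := (w ⊗ₘ w) ≫ μ[X]
  have hfac : ((l ⊗ₘ l) ≫ μ[Y]) ≫ i = q := by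
    simp only [q, Category.assoc, IsMonHom.mul_hom, tensorHom_comp_tensorHom_assoc, hl]
  have h1 : Flat (w ⊗ₘ w).left :=
    MorphismProperty.pullback_map (P := @Flat) (‹Flat w.left›) (‹Flat w.left›) (Over.w w).symm (Over.w w).symm
  have h1' : LocallyOfFinitePresentation (w ⊗ₘ w).left :=
    MorphismProperty.pullback_map (P := @LocallyOfFinitePresentation) (‹LocallyOfFinitePresentation w.left›) (‹LocallyOfFinitePresentation w.left›) (Over.w w).symm (Over.w w).symm
  have h2 : Flat μ[X].left := by
    rw [GrpBasic.mul_left_eq]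
    have : Flat (fst X X).left := inferInstanceAs (Flat (pullback.fst X.hom X.hom))
    infer_instance
  have h2' : LocallyOfFinitePresentation μ[X].left := by
    rw [GrpBasic.mul_left_eq]
    have : LocallyOfFinitePresentation (fst X X).left :=
      inferInstanceAs (LocallyOfFinitePresentation (pullback.fst X.hom X.hom))
    infer_instance
  have hF : Flat q.left := by rw [Over.comp_left]; infer_instance
  have hL : LocallyOfFinitePresentation q.left := by rw [Over.comp_left]; infer_instance
  have hS : Surjective q.left := by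
    refine ⟨fun g => ?_⟩
    obtain ⟨v, hv⟩ := hW g
    obtain ⟨z, hz1, hz2, hz3⟩ := GrpField.exists_mul_eq_of_irreducible X
      ⟨Set.range w.left, w.left.isOpenMap.isOpen_range⟩ g
      ⟨w.left v, ⟨v, rfl⟩, (congrArg (fun m : W.left ⟶ S => m v) (Over.w w)).trans hv⟩
    obtain ⟨t, ht⟩ : z ∈ Set.range (w ⊗ₘ w).left := by
      rw [show (w ⊗ₘ w).left = pullback.map W.hom W.hom X.hom X.hom w.left w.left (𝟙 S)
        (by rw [Category.comp_id, Over.w w]) (by rw [Category.comp_id, Over.w w]) from rfl,
        ]
      erw [Scheme.Pullback.range_map]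
      exact ⟨hz1, hz2⟩
    exact ⟨t, by rw [Over.comp_left, Scheme.Hom.comp_apply, ht, hz3]⟩
  obtain ⟨m, hm⟩ := exists_lift_descend i.left (𝟙 X.left) q.left (.inr hL)
    ⟨((l ⊗ₘ l) ≫ μ[Y]).left, by rw [← Over.comp_left, hfac, Category.comp_id]⟩
  have : IsSplitEpi i.left := ⟨⟨⟨m, hm⟩⟩⟩
  exact isIso_of_mono_of_isSplitEpi _

end Trick

end Groth.Agent.SubLocus
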