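import Groth.Agent.SubLocus.Spec
import Groth.Agent.SubLocus.Conn
import Groth.Agent.SmSect.Basic
import Groth.Agent.TwConst.UnramifiedNbhd
import Groth.Agent.ConsEngine.SetProp

/-! # The locus where a monomorphism of groups is an isomorphism: étale-local representability -/

set_option autoImplicit false
set_option backward.isDefEq.respectTransparency false

universe u

open CategoryTheory CategoryTheory.Limits MonoidalCategory CartesianMonoidalCategory AlgebraicGeometry
open Topology Groth.Agent.ClosedRep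

namespace Groth.Agent.SubLocus

variable {S : Scheme.{u}} {X Y : Over S}

/-- `X_T → X` factors through `Y` -/
def P (i : Y ⟶ X) ⦃T : Scheme.{u}⦄ (h : T ⟶ S) : Prop :=
  ∃ l, l ≫ i.left = pullback.fst X.hom h

theorem P_comp (i : Y ⟶ X) {T T' : Scheme.{u}} (a : T' ⟶ T) (h : T ⟶ S) (hP : P i h) :
    P i (a ≫ h) := by
  obtain ⟨l, hl⟩ := hP
  exact ⟨Proj.pm X.hom a rfl ≫ l, by rw [Category.assoc, hl, Proj.pm, pullback.lift_fst]⟩

theorem isPullback_pm {Z S : Scheme.{u}} (p : Z ⟶ S) {T T' : Scheme.{u}} (a : T' ⟶ T) (h : T ⟶ S) :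
    IsPullback (Proj.pm p a (rfl : a ≫ h = _)) (pullback.snd p (a ≫ h)) (pullback.snd p h) a := by
  refine IsPullback.of_right ?_ (pullback.lift_snd _ _ _) (IsPullback.of_hasPullback p h)
  rw [Proj.pm, pullback.lift_fst]
  exact IsPullback.of_hasPullback p (a ≫ h)

theorem P_descend (i : Y ⟶ X) [Mono i] {T T' : Scheme.{u}} (a : T' ⟶ T) (h : T ⟶ S) [Surjective a]
    [Flat a] [QuasiCompact a] (hP : P i (a ≫ h)) : P i h := by
  obtain ⟨l, hl⟩ := hP
  have hb := (isPullback_pm X.hom a h).flip
  have : Surjective (Proj.pm X.hom a (rfl : a ≫ h = _)) :=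
    MorphismProperty.of_isPullback (P := @Surjective) hb ‹_›
  have : Flat (Proj.pm X.hom a (rfl : a ≫ h = _)) :=
    MorphismProperty.of_isPullback (P := @Flat) hb ‹_›
  have : QuasiCompact (Proj.pm X.hom a (rfl : a ≫ h = _)) :=
    MorphismProperty.of_isPullback (P := @QuasiCompact) hb ‹_›
  exact exists_lift_descend i.left _ (Proj.pm X.hom a rfl) (.inl inferInstance)
    ⟨l, by rw [hl, Proj.pm, pullback.lift_fst]⟩

theorem isLocal_P (i : Y ⟶ X) [Mono i] : IsLocal (P i) := by
  intro T h 𝒰
  refine ⟨fun hP k => P_comp i _ _ hP, fun hP => ?_⟩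
  let 𝒱 : Scheme.OpenCover.{u} (pullback X.hom h) := Scheme.Pullback.openCoverOfRight 𝒰 X.hom h
  refine exists_lift_of_cover i.left _ 𝒱 fun k => ?_
  obtain ⟨l, hl⟩ := hP k
  refine ⟨l, hl.trans ?_⟩
  change _ = pullback.map X.hom (𝒰.f k ≫ h) X.hom h (𝟙 X.left) (𝒰.f k) (𝟙 S) (by simp) (by simp) ≫ _
  rw [pullback.lift_fst, Category.comp_id]

theorem P_mem_E (i : Y ⟶ X) {T : Scheme.{u}} {h : T ⟶ S} (hP : P i h) (t : T) : h t ∈ E i := by
  intro x hx
  obtain ⟨l, hl⟩ := hP
  obtain ⟨p, hp, -⟩ := Scheme.Pullback.exists_preimage_pullback (f := X.hom) (g := h) x t hx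
  exact ⟨l p, (congrArg (fun m : _ ⟶ X.left => m p) hl).trans hp⟩

theorem eq_of_specializes {A B : Scheme.{u}} (f : A ⟶ B) [LocallyQuasiFinite f] {a b : A}
    (hab : a ⤳ b) (h : f a = f b) : a = b := by
  have hd : DiscreteTopology ↥(f ⁻¹' {f b}) := (f.isDiscrete_preimage_singleton _).to_subtype
  let a' : ↥(f ⁻¹' {f b}) := ⟨a, h⟩
  let b' : ↥(f ⁻¹' {f b}) := ⟨b, rfl⟩
  have h' : a' ⤳ b' := Topology.IsInducing.subtypeVal.specializes_iff.mp hab
  exact congrArg Subtype.val (specializes_iff_eq.mp h')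

/-- an open around a point over a fibre generic point, whose fibre lies in its closure -/
theorem exists_open_fibre_closure {U Z S : Scheme.{u}} (g : U ⟶ Z) (q : Z ⟶ S) [Etale g] [Smooth q]
    (u : U) (hgen : IsGen q (g u)) :
    ∃ O : U.Opens, u ∈ O ∧ ∀ b ∈ O, q (g b) = q (g u) → u ⤳ b := by
  let f := g ≫ q
  have hsm : Smooth f := inferInstance
  have : LocallyQuasiFinite g := EtaleSections.locallyQuasiFinite_of_unramified g
  obtain ⟨a, ha⟩ : u ∈ Set.range (f.fiberι (f u)) := (f.range_fiberι _).ge rfl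
  obtain ⟨W, hW, hWi, haW⟩ := exists_irreducible_nhd (f.fiberToSpecResidueField (f u)) a
  obtain ⟨w, hw⟩ := QuasiSober.sober hWi.closure isClosed_closure
  obtain ⟨O, hO, hO'⟩ := (f.fiberι (f u)).isEmbedding.isInducing.isOpen_iff.mp hW
  have hwu : f.fiberι (f u) w ⤳ u := by
    have := (hw.specializes (subset_closure haW)).map (f.fiberι (f u)).continuous
    rwa [ha] at this
  have hw' : f.fiberι (f u) w = u := by
    refine eq_of_specializes g hwu (hgen.eq_of_specializes (hwu.map g.continuous) ?_)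
    exact (f.range_fiberι (f u)).le ⟨w, rfl⟩
  refine ⟨⟨O, hO⟩, ?_, fun b hb hbs => ?_⟩
  · have h := (Set.ext_iff.mp hO' a).mpr haW
    rwa [Set.mem_preimage, ha] at h
  · obtain ⟨c, hc⟩ : b ∈ Set.range (f.fiberι (f u)) := (f.range_fiberι _).ge hbs
    have hcW : c ∈ W := (Set.ext_iff.mp hO' c).mp (by rw [Set.mem_preimage, hc]; exact hb)
    have := (hw.specializes (subset_closure hcW)).map (f.fiberι (f u)).continuous
    rwa [hw', hc] at this

variable [GrpObj X] [GrpObj Y] (i : Y ⟶ X) [IsMonHom i] [Mono i]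
  [LocallyOfFiniteType Y.hom] [GeometricallyIrreducible X.hom] [Smooth X.hom]
  [QuasiCompact X.hom] [LocallyOfFinitePresentation i.left] [QuasiCompact i.left]

set_option maxHeartbeats 2000000 in
/-- Etale-local representability at a point of the locus. -/
theorem exists_chart_E (s : S) (hs : s ∈ E i) :
    ∃ (N : Scheme.{u}) (_ : IsAffine N) (ρ : N ⟶ S) (n₀ : N), Etale ρ ∧ ρ n₀ = s ∧
      ∃ J : N.IdealSheafData, Reps (fun _ h => P i (h ≫ ρ)) J ∧
        LocallyOfFinitePresentation J.subschemeι := by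
  obtain ⟨ξ, hξs, hξ⟩ := exists_isGen X.hom s
  obtain ⟨y₀, hy₀⟩ := hs ξ hξs
  obtain ⟨U, g, u, hg, hgu, K, -, lab, V, v, hV, -, hall, -⟩ :=
    TwConst.exists_unramified_split i.left ξ (ι := PUnit) (fun _ => y₀) (fun _ => hy₀)
      (fun _ => ⟨⊤, trivial, inferInstance, inferInstance⟩)
  obtain ⟨w₀, hw₀1, hw₀2⟩ := Scheme.Pullback.exists_preimage_pullback (f := i.left) (g := g) y₀ u
    (hy₀.trans hgu.symm)
  obtain ⟨k, -⟩ := hall w₀ PUnit.unit hw₀2 hw₀1
  obtain ⟨hvk, hVk, hvu, -, -⟩ := hV k
  let z := (V k).ι ≫ pullback.snd i.left g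
  have : IsClosedImmersion z := hVk
  have hzlfp : LocallyOfFinitePresentation z := by
    have : LocallyOfFinitePresentation (pullback.snd i.left g) := inferInstance
    dsimp [z]; infer_instance
  have hu : u ∈ Set.range z := ⟨⟨v k, hvk⟩, hvu⟩
  have hinj : Function.Injective (pullback.snd i.left g) :=
    (pullback.snd i.left g).injective
  have hgen : IsGen X.hom (g u) := by rw [hgu]; exact hξ
  obtain ⟨O, huO, hOs⟩ := exists_open_fibre_closure g X.hom u hgen
  obtain ⟨S₁, π, s₁, hπ, hπs, σ₀, hσ₀⟩ := SmSect.exists_etale_section (O.ι ≫ g ≫ X.hom) ⟨u, huO⟩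
  have hπs' : π s₁ = s := hπs.trans ((congrArg X.hom hgu).trans hξs)
  let f₁ := pullback.snd (O.ι ≫ g ≫ X.hom) π
  let σ₁ : S₁ ⟶ pullback (O.ι ≫ g ≫ X.hom) π :=
    pullback.lift σ₀ (𝟙 _) (by rw [hσ₀, Category.id_comp])
  have : Smooth f₁ := MorphismProperty.pullback_snd _ _ inferInstance
  obtain ⟨N, W, e, hs₁N, hNa, hWa, hgi⟩ := exists_geomIntegral_chart f₁ σ₁ (pullback.lift_snd _ _ _) s₁
  have : IsAffine N.toScheme := hNa
  have : IsAffine W.toScheme := hWa
  let g₃ := f₁.resLE N W e
  let ρ : N.toScheme ⟶ S := N.ι ≫ π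
  let n₀ : N.toScheme := ⟨s₁, hs₁N⟩
  have hρn : ρ n₀ = s := hπs'
  have hsm₃ : Smooth g₃ := by dsimp [g₃]; infer_instance
  let m : W.toScheme ⟶ U := W.ι ≫ pullback.fst (O.ι ≫ g ≫ X.hom) π ≫ O.ι
  let w := m ≫ g
  have hwX : w ≫ X.hom = g₃ ≫ ρ := by
    simp only [w, m, g₃, ρ, Category.assoc, Scheme.Hom.resLE_comp_ι_assoc, f₁]
    rw [pullback.condition]
  have hmet : Etale m := by
    have : Etale (pullback.fst (O.ι ≫ g ≫ X.hom) π) := MorphismProperty.pullback_fst _ _ hπ
    dsimp [m]; infer_instance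
  have hρet : Etale ρ := by dsimp [ρ]; infer_instance
  let wN : W.toScheme ⟶ pullback X.hom ρ := pullback.lift w g₃ hwX
  have hwN : Etale wN := by
    have : Etale (pullback.fst X.hom ρ) := MorphismProperty.pullback_fst _ _ hρet
    have : Etale (wN ≫ pullback.fst X.hom ρ) := by
      rw [pullback.lift_fst]; dsimp [w]; infer_instance
    exact Etale.of_comp wN (pullback.fst X.hom ρ)
  -- the fibre over `n₀` lands in `z`
  have hfib : ∀ b : W.toScheme, g₃ b = n₀ → m b ∈ Set.range z := fun b hb => by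
    have h1 : X.hom (g (m b)) = s := by
      rw [← hρn, ← hb]
      exact congrArg (fun q : W.toScheme ⟶ S => q b) hwX
    refine (hOs (m b) ?_ ?_).mem_closed z.isClosedEmbedding.isClosed_range hu
    · exact ((pullback.fst (O.ι ≫ g ≫ X.hom) π) (W.ι b)).2
    · rw [h1, hgu, hξs]
  -- the bad set
  let Bad : Set N.toScheme := ρ ⁻¹' E i ∩ g₃ '' (m ⁻¹' (Set.range z)ᶜ)
  have hBad : IsLocallyConstructible Bad := by
    refine (ConsEngine.isLocallyConstructible_preimage ρ (isLocallyConstructible_E i)).inter ?_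
    refine g₃.isLocallyConstructible_image (ConsEngine.isLocallyConstructible_preimage m ?_)
    refine ConsTop.isLocallyConstructible_compl ?_
    rw [← Set.image_univ]
    exact z.isLocallyConstructible_image IsLocallyConstructible.univ
  let XN := (Over.pullback ρ).obj X
  let YN := (Over.pullback ρ).obj Y
  let iN := (Over.pullback ρ).map i
  letI : GrpObj XN := Functor.grpObjObj (F := Over.pullback ρ)
  letI : GrpObj YN := Functor.grpObjObj (F := Over.pullback ρ)
  haveI : Mono iN := Functor.map_mono (Over.pullback ρ) i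
  haveI : Smooth XN.hom := MorphismProperty.pullback_snd _ _ ‹Smooth X.hom›
  haveI : GeometricallyIrreducible XN.hom := inferInstanceAs (GeometricallyIrreducible (pullback.snd X.hom ρ))
  haveI : LocallyOfFiniteType YN.hom := MorphismProperty.pullback_snd _ _ ‹LocallyOfFiniteType Y.hom›
  haveI : QuasiCompact iN.left :=
    MorphismProperty.of_isPullback (P := @QuasiCompact) (isPullback_map i ρ).flip ‹_›
  have hn₀ : n₀ ∉ closure Bad := by
    intro hc
    obtain ⟨t, ⟨htE, b, hb, hbt⟩, htn⟩ := ConsEngine.exists_specializes_of_mem_closure hBad hc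
    refine hb ?_
    have htE' : t ∈ E iN := fun x hx => by
      have hx' : X.hom (pullback.fst X.hom ρ x) = ρ t := by
        rw [← hx]
        exact congrArg (fun q : _ ⟶ S => q x) pullback.condition
      obtain ⟨y, hy⟩ := htE _ hx'
      obtain ⟨p, hp, -⟩ := Scheme.exists_preimage_of_isPullback (isPullback_map i ρ) x y hy.symm
      exact ⟨p, hp⟩
    obtain ⟨ξt, hξtt, hξt⟩ := exists_isGen XN.hom t
    obtain ⟨η', hη'⟩ := htE' ξt hξtt
    obtain ⟨yN, hyN, hgenN, hsp⟩ := exists_gen_specializes iN htn htE' η'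
      (by rw [← hom_apply iN, hη', hξtt]) (hη' ▸ hξt)
    -- a point of `W` over the generic point of the fibre at `n₀`
    obtain ⟨b₀, hb₀⟩ := g₃.surjective n₀
    have hwg : ∀ c, pullback.snd X.hom ρ (wN c) = g₃ c := fun c =>
      congrArg (fun q : W.toScheme ⟶ N.toScheme => q c) (pullback.lift_snd w g₃ hwX)
    obtain ⟨c, hc⟩ : iN.left yN ∈ Set.range wN :=
      hgenN.mem_open (O := ⟨Set.range wN, wN.isOpenMap.isOpen_range⟩) (x' := wN b₀)
        ((hwg b₀).trans (hb₀.trans ((hom_apply iN yN).trans hyN).symm)) ⟨b₀, rfl⟩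
    obtain ⟨r₀, hr₀1, hr₀2⟩ := Scheme.Pullback.exists_preimage_pullback (f := iN.left) (g := wN) yN c hc.symm
    obtain ⟨r, hr, hr1⟩ := Flat.generalizingMap (pullback.fst iN.left wN)
      (show η' ⤳ pullback.fst iN.left wN r₀ from hr₀1.symm ▸ hsp)
    let q : pullback iN.left wN ⟶ pullback i.left g :=
      pullback.lift (pullback.fst iN.left wN ≫ pullback.fst Y.hom ρ) (pullback.snd iN.left wN ≫ m) (by
        rw [Category.assoc, ← (isPullback_map i ρ).w, pullback.condition_assoc, pullback.lift_fst,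
          Category.assoc])
    have hq : ∀ p, pullback.snd i.left g (q p) = m (pullback.snd iN.left wN p) := fun p =>
      congrArg (fun q' : _ ⟶ U => q' p) (pullback.lift_snd _ _ _)
    have hc0 : g₃ c = n₀ := by rw [← hwg, hc]; exact (hom_apply iN yN).trans hyN
    obtain ⟨v', hv'⟩ := hfib c hc0
    have hqV : q r₀ ∈ V k := by
      have : (V k).ι v' = q r₀ := hinj (by rw [hq, hr₀2]; exact hv')
      rw [← this]; exact v'.2
    have hqrV : q r ∈ V k := (hr.map q.continuous).mem_open (V k).2 hqV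
    have hc'z : m (pullback.snd iN.left wN r) ∈ Set.range z := ⟨⟨q r, hqrV⟩, hq r⟩
    set c' := pullback.snd iN.left wN r with hc'_def
    have hc'gen : wN c' = ξt := by
      rw [← hη', ← hr1]
      exact (congrArg (fun q' : _ ⟶ XN.left => q' r) pullback.condition).symm
    obtain ⟨ct, hct, hctgen⟩ := exists_isGen g₃ t
    have hc't : g₃ c' = t := by rw [← hwg, hc'gen]; exact hξtt
    have hh : wN ct = wN c' := by
      refine IsGen.eq_of_specializes (f := XN.hom) (hc'gen ▸ hξt)
        ((hctgen c' (hc't.trans hct.symm)).map wN.continuous) ?_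
      exact (hwg ct).trans (hct.trans (hc't.symm.trans (hwg c').symm))
    haveI : LocallyQuasiFinite wN := EtaleSections.locallyQuasiFinite_of_unramified wN
    have hctc : ct = c' := eq_of_specializes wN (hctgen c' (hc't.trans hct.symm)) hh
    exact ((hctgen b (hbt.trans hct.symm)).map m.continuous).mem_closed
      z.isClosedEmbedding.isClosed_range (hctc.symm ▸ hc'z)
  obtain ⟨r, hrle, hnr⟩ := (isAffineOpen_top N.toScheme).exists_basicOpen_le
    (V := ⟨(closure Bad)ᶜ, isClosed_closure.isOpen_compl⟩) ⟨n₀, hn₀⟩ trivial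
  -- the Weil restriction on `N`
  let Iz := z.ker.comap m
  obtain ⟨T, tc, htc, hT, hTfp⟩ :=
    ClosedRep.GeomIntegral.exists_weilRestriction_closed g₃ Iz.subschemeι
  have hfp : LocallyOfFinitePresentation tc := hTfp (by
    have := lfp_ker_subschemeι (pullback.fst m z)
    rwa [Scheme.IdealSheafData.ker_fst_of_isClosedImmersion] at this)
  let N' := N.toScheme.basicOpen r
  have : IsAffine N'.toScheme := (isAffineOpen_top N.toScheme).basicOpen r
  refine ⟨N'.toScheme, inferInstance, N'.ι ≫ ρ, ⟨n₀, hnr⟩, inferInstance, hρn,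
    tc.ker.comap N'.ι, fun T' h' => ?_, ?_⟩
  · beta_reduce
    rw [← Category.assoc, ← Scheme.IdealSheafData.comap_comp, comap_eq_bot_iff]
    have hTh := hT T' (h' ≫ N'.ι)
    rw [Scheme.IdealSheafData.ker_subschemeι] at hTh
    refine Iff.trans ?_ ((hTh.symm).trans ⟨fun ⟨l, hl⟩ => hl ▸ Scheme.Hom.le_ker_comp l tc,
      fun hle => ⟨IsClosedImmersion.lift tc _ hle, IsClosedImmersion.lift_fac _ _ _⟩⟩)
    let h := h' ≫ N'.ι
    let g₀ := h ≫ ρ
    let a : pullback g₃ h ⟶ U := pullback.fst g₃ h ≫ m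
    let w₀ : pullback g₃ h ⟶ pullback X.hom g₀ :=
      pullback.lift (pullback.fst g₃ h ≫ w) (pullback.snd g₃ h)
        (by rw [Category.assoc, hwX, pullback.condition_assoc])
    rw [← Scheme.IdealSheafData.comap_comp, comap_eq_bot_iff]
    constructor
    · rintro ⟨l, hl⟩
      let c : pullback g₃ h ⟶ pullback i.left g := pullback.lift (w₀ ≫ l) a (by
        rw [Category.assoc, hl, pullback.lift_fst, Category.assoc])
      have hca : c ≫ pullback.snd i.left g = a := pullback.lift_snd _ _ _
      have hr : Set.range c ⊆ Set.range (V k).ι := by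
        rintro _ ⟨p, rfl⟩
        have ht : g₃ (pullback.fst g₃ h p) = h (pullback.snd g₃ h p) :=
          congrArg (fun q : _ ⟶ N.toScheme => q p) pullback.condition
        have hgood : a p ∈ Set.range z := by
          by_contra hcon
          refine hrle (h' (pullback.snd g₃ h p)).2 (subset_closure ?_)
          exact ⟨P_mem_E i (h := g₀) ⟨l, hl⟩ _, pullback.fst g₃ h p, hcon, ht⟩
        obtain ⟨v', hv'⟩ := hgood
        exact ⟨v', hinj (hv'.trans (congrArg (fun q : _ ⟶ U => q p) hca).symm)⟩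
      have : a = IsOpenImmersion.lift (V k).ι c hr ≫ z := by
        rw [IsOpenImmersion.lift_fac_assoc, hca]
      change z.ker ≤ a.ker
      rw [this]
      exact Scheme.Hom.le_ker_comp _ z
    · intro hle
      obtain ⟨l, hl⟩ : ∃ l, l ≫ z = a :=
        ⟨IsClosedImmersion.lift z a hle, IsClosedImmersion.lift_fac _ _ _⟩
      let X₀ := (Over.pullback g₀).obj X
      let Y₀ := (Over.pullback g₀).obj Y
      let i₀ := (Over.pullback g₀).map i
      letI : GrpObj X₀ := Functor.grpObjObj (F := Over.pullback g₀)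
      letI : GrpObj Y₀ := Functor.grpObjObj (F := Over.pullback g₀)
      haveI : Mono i₀ := Functor.map_mono (Over.pullback g₀) i
      haveI : GeometricallyIrreducible X₀.hom := inferInstanceAs (GeometricallyIrreducible (pullback.snd X.hom g₀))
      haveI : Flat X₀.hom := MorphismProperty.pullback_snd _ _ (inferInstance : Flat X.hom)
      haveI : LocallyOfFinitePresentation X₀.hom :=
        MorphismProperty.pullback_snd _ _ (inferInstance : LocallyOfFinitePresentation X.hom)
      let W₀ : Over T' := Over.mk (pullback.snd g₃ h)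
      let wv : W₀ ⟶ X₀ := Over.homMk w₀ (pullback.lift_snd _ _ _)
      have sq : IsPullback (pullback.fst g₃ h) w₀ wN (Proj.pm X.hom h (rfl : h ≫ ρ = g₀)) := by
        refine IsPullback.of_bot ?_ ?_ (isPullback_pm X.hom h ρ)
        · rw [pullback.lift_snd, pullback.lift_snd]
          exact IsPullback.of_hasPullback g₃ h
        · apply pullback.hom_ext
          · simp [w₀, wN, Proj.pm]
          · simp [w₀, wN, Proj.pm, pullback.condition]
      haveI : Etale wv.left := MorphismProperty.of_isPullback (P := @Etale) sq hwN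
      have hcond : (l ≫ (V k).ι ≫ pullback.fst i.left g) ≫ i.left = pullback.fst g₃ h ≫ w := by
        simp only [Category.assoc, pullback.condition]
        rw [show l ≫ (V k).ι ≫ pullback.snd i.left g ≫ g = (l ≫ z) ≫ g by
          simp only [z, Category.assoc], hl]
        simp only [a, w, Category.assoc]
      let ly : W₀ ⟶ Y₀ := Over.homMk (pullback.lift (l ≫ (V k).ι ≫ pullback.fst i.left g)
          (pullback.snd g₃ h) (by
            have := congrArg (· ≫ X.hom) hcond
            simp only [Category.assoc, Over.w i, hwX, pullback.condition_assoc] at this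
            simpa only [Category.assoc] using this)) (pullback.lift_snd _ _ _)
      have hly : ly ≫ i₀ = wv := by
        ext1
        rw [Over.comp_left]
        apply pullback.hom_ext
        · rw [Category.assoc]
          erw [(isPullback_map i g₀).w, pullback.lift_fst_assoc, hcond, pullback.lift_fst]
        · rw [Category.assoc]
          erw [pullback.lift_snd, pullback.lift_snd, pullback.lift_snd]
      have : IsIso i₀.left := isIso_left_of_factors i₀ wv (fun x => by
        obtain ⟨b, hb⟩ := (pullback.snd g₃ h).surjective (X₀.hom x)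
        exact ⟨b, hb⟩) ly hly
      refine ⟨inv i₀.left ≫ pullback.fst Y.hom g₀, ?_⟩
      calc (inv i₀.left ≫ pullback.fst Y.hom g₀) ≫ i.left
          = inv i₀.left ≫ i₀.left ≫ pullback.fst X.hom g₀ := by
            rw [Category.assoc]
            exact congrArg (inv i₀.left ≫ ·) (isPullback_map i g₀).w.symm
        _ = pullback.fst X.hom g₀ := IsIso.inv_hom_id_assoc _ _
  · have := lfp_ker_subschemeι (pullback.fst N'.ι tc)
    rwa [Scheme.IdealSheafData.ker_fst_of_isClosedImmersion] at this

end Groth.Agent.SubLocus
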