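import Groth.Agent.ClosedRep.FinLocFree
import Groth.Agent.S4876
import Groth.Agent.ConsEngine.Props
import Mathlib.AlgebraicGeometry.Noetherian

/-! # Closed loci tested on a fibrewise schematically dense family of finite flat schemes -/

set_option autoImplicit false
set_option linter.style.haveILetI false
set_option backward.isDefEq.respectTransparency false
set_option maxHeartbeats 800000

universe u

open CategoryTheory CategoryTheory.Limits AlgebraicGeometry
open Groth.Agent.ClosedRep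

noncomputable section

namespace Groth.Agent.SubLocus


open Classical in
theorem exists_max_idealSheaf {T : Scheme.{u}} [IsNoetherian T] {ι : Type u} [Nonempty ι]
    (J : ι → T.IdealSheafData) (h : ∀ i j, ∃ k, J i ≤ J k ∧ J j ≤ J k) : ∃ n, ∀ i, J i ≤ J n := by
  have hcov : ⨆ U : T.affineOpens, (U : T.Opens) = ⊤ := iSup_affineOpens_eq_top _
  obtain ⟨s, hs⟩ : ∃ s : Finset T.affineOpens, ⨆ U : s, ((U : T.affineOpens) : T.Opens) = ⊤ := by
    obtain ⟨s, hs⟩ := isCompact_univ.elim_finite_subcover (fun U : T.affineOpens => ((U : T.Opens) : Set T))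
      (fun U => (U : T.Opens).isOpen) (fun x _ => by
        have : x ∈ ⨆ U : T.affineOpens, (U : T.Opens) := hcov ▸ trivial
        obtain ⟨U, hU⟩ := TopologicalSpace.Opens.mem_iSup.mp this
        exact Set.mem_iUnion.mpr ⟨U, hU⟩)
    refine ⟨s, top_le_iff.mp fun x hx => ?_⟩
    obtain ⟨U, hU, hxU⟩ := Set.mem_iUnion₂.mp (hs (Set.mem_univ x))
    exact TopologicalSpace.Opens.mem_iSup.mpr ⟨⟨U, hU⟩, hxU⟩
  haveI : ∀ U : s, IsNoetherianRing Γ(T, ((U : T.affineOpens) : T.Opens)) :=
    fun U => IsLocallyNoetherian.component_noetherian _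
  have hmax : ∀ U : s, ∃ n, ∀ i, (J i).ideal U ≤ (J n).ideal U := by
    intro U
    obtain ⟨_, ⟨n, rfl⟩, hn⟩ := WellFounded.has_min
      (wellFounded_gt (α := Ideal Γ(T, ((U : T.affineOpens) : T.Opens))))
      (Set.range (fun i => (J i).ideal U)) (Set.range_nonempty _)
    refine ⟨n, fun i => ?_⟩
    obtain ⟨k, hik, hnk⟩ := h i n
    refine (hik _).trans (le_of_eq ?_)
    by_contra hne
    exact hn _ ⟨k, rfl⟩ (lt_of_le_of_ne (hnk _) (Ne.symm hne))
  choose n hn using hmax
  haveI : Nonempty ι := ‹_›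
  obtain ⟨m, hm⟩ := Directed.finset_le (f := J) h (Finset.univ.image n)
  refine ⟨m, fun i => Scheme.IdealSheafData.le_of_iSup_eq_top (U := fun U : s => (U : T.affineOpens)) hs fun U => ?_⟩
  exact (hn U i).trans (hm (n U) (Finset.mem_image.mpr ⟨U, Finset.mem_univ _, rfl⟩) _)

variable {X S T : Scheme.{u}} (p : X ⟶ S) (q : T ⟶ S) {ι : Type u} {Z : ι → Scheme.{u}} (f : ∀ i, Z i ⟶ X)

/-- a member of the family, over a scheme over `T` -/
def famMap (i : ι) {T' : Scheme.{u}} (h : T' ⟶ T) : pullback (f i ≫ p) (h ≫ q) ⟶ pullback p q :=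
  pullback.map (f i ≫ p) (h ≫ q) p q (f i) h (𝟙 S) (Category.comp_id _) (Category.comp_id _)

/-- The locus over which `X` lands in a closed subscheme is closed, and is detected on the family. -/
theorem exists_reps_dense [IsLocallyNoetherian S] [LocallyOfFiniteType p] [∀ i, IsFinite (f i ≫ p)]
    [∀ i, Flat (f i ≫ p)]
    (hb : ∀ s : S, ∀ (V : (p.fiber s).Opens) (t : Γ(p.fiber s, V)),
      (∀ i, (MoreMor.fiberMap (f i) p s).app V t = 0) → t = 0)
    (I : (pullback p q).IdealSheafData) :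
    ∃ J : ι → T.IdealSheafData, Reps (fun T' h => ZeroOn p q I (T' := T') h) (⨆ i, J i) ∧
      ∀ i {T' : Scheme.{u}} (h : T' ⟶ T), I.comap (famMap p q f i h) = ⊥ ↔ (J i).comap h = ⊥ := by
  haveI : IsLocallyNoetherian X := LocallyOfFiniteType.isLocallyNoetherian p
  have hex : ∀ i, ∃ J : T.IdealSheafData, ∀ {T' : Scheme.{u}} (h : T' ⟶ T),
      I.comap (famMap p q f i h) = ⊥ ↔ J.comap h = ⊥ := fun i => by
    haveI : LocallyOfFinitePresentation (f i ≫ p) := ConsEngine.lfp_of_lft _
    let μ : pullback (f i ≫ p) q ⟶ pullback p q :=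
      pullback.map (f i ≫ p) q p q (f i) (𝟙 T) (𝟙 S) (Category.comp_id _) (by simp)
    obtain ⟨J, hJ⟩ := exists_reps_zeroOn (f i ≫ p) q (I.comap μ) (isLocFree_of_finLocFree _)
    refine ⟨J, fun {T'} h => ?_⟩
    rw [← hJ h]
    change _ ↔ (I.comap μ).comap _ = ⊥
    rw [← Scheme.IdealSheafData.comap_comp]
    rw [show pm (f i ≫ p) h rfl ≫ μ = famMap p q f i h by
      apply pullback.hom_ext <;> simp [μ, famMap]]
  choose J hJ using hex
  refine ⟨J, fun T' h => ?_, fun i T' h => hJ i h⟩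
  have key : (∀ i, (J i).comap h = ⊥) ↔ (⨆ i, J i).comap h = ⊥ := by
    simp only [ClosedRep.comap_eq_bot_iff, iSup_le_iff]
  rw [← key]
  change I.comap (pm p h rfl) = ⊥ ↔ _
  let u : ∀ i, pullback (f i ≫ p) (h ≫ q) ⟶ pullback p (h ≫ q) := fun i =>
    pullback.map (f i ≫ p) (h ≫ q) p (h ≫ q) (f i) (𝟙 T') (𝟙 S) (Category.comp_id _)
      ((Category.comp_id _).trans (Category.id_comp _).symm)
  have hu : ∀ i, famMap p q f i h = u i ≫ pm p h rfl := fun i => by
    apply pullback.hom_ext <;> simp [u, famMap]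
  constructor
  · intro h0 i
    rw [← hJ, hu, Scheme.IdealSheafData.comap_comp, h0, bot_comap]
  · intro hall
    have hall' : ∀ i, (I.comap (pm p h rfl)).comap (u i) = ⊥ := fun i => by
      rw [← Scheme.IdealSheafData.comap_comp, ← hu, hJ]
      exact hall i
    refine Scheme.IdealSheafData.ext (funext fun V => ?_)
    rw [Scheme.IdealSheafData.ideal_bot]
    refine eq_bot_iff.mpr fun t ht => ?_
    refine (Submodule.mem_bot _).mpr ((Groth.Agent.S4876.result p Z f).mpr hb T' (h ≫ q) V.1 t fun i => ?_)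
    exact (u i).ideal_ker_le V ((ClosedRep.comap_eq_bot_iff _ _).mp (hall' i) V ht)

/-- On a Noetherian base a directed family has a member detecting the locus. -/
theorem exists_index_dense [IsLocallyNoetherian S] [LocallyOfFiniteType p] [∀ i, IsFinite (f i ≫ p)]
    [∀ i, Flat (f i ≫ p)] [IsNoetherian T] [Nonempty ι]
    (hb : ∀ s : S, ∀ (V : (p.fiber s).Opens) (t : Γ(p.fiber s, V)),
      (∀ i, (MoreMor.fiberMap (f i) p s).app V t = 0) → t = 0)
    (hdir : ∀ i j, ∃ k, (∃ a, a ≫ f k = f i) ∧ ∃ b, b ≫ f k = f j)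
    (I : (pullback p q).IdealSheafData) :
    ∃ n, ∀ {T' : Scheme.{u}} (h : T' ⟶ T), ZeroOn p q I h ↔ I.comap (famMap p q f n h) = ⊥ := by
  obtain ⟨J, hJ, hJi⟩ := exists_reps_dense p q f hb I
  have hmono : ∀ i k, (∃ a, a ≫ f k = f i) → J i ≤ J k := by
    rintro i k ⟨a, ha⟩
    have hk : (J k).comap (J k).subschemeι = ⊥ := by
      rw [ClosedRep.comap_eq_bot_iff, Scheme.IdealSheafData.ker_subschemeι]
    have e : famMap p q f i (J k).subschemeι =
        pullback.map (f i ≫ p) _ (f k ≫ p) _ a (𝟙 _) (𝟙 S) (by rw [reassoc_of% ha, Category.comp_id])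
          (by simp) ≫ famMap p q f k (J k).subschemeι := by
      apply pullback.hom_ext <;> simp [famMap, ha]
    have h2 : I.comap (famMap p q f i (J k).subschemeι) = ⊥ := by
      rw [e, Scheme.IdealSheafData.comap_comp, (hJi k _).mpr hk, bot_comap]
    have h3 := (hJi i _).mp h2
    rwa [ClosedRep.comap_eq_bot_iff, Scheme.IdealSheafData.ker_subschemeι] at h3
  obtain ⟨n, hn⟩ := exists_max_idealSheaf J fun i j => by
    obtain ⟨k, hi, hj⟩ := hdir i j
    exact ⟨k, hmono i k hi, hmono j k hj⟩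
  refine ⟨n, fun {T'} h => ?_⟩
  refine (hJ h).trans ?_
  rw [hJi n h, show (⨆ i, J i) = J n from le_antisymm (iSup_le hn) (le_iSup J n)]

end Groth.Agent.SubLocus
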