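import Groth.Agent.SubLocus.Basic
import Groth.Agent.Unibranch.UpperSemicont
import Groth.Agent.LocalDimBC.Smooth
import Groth.Agent.ConsEngine.ClosureFibre

/-! # The locus where a monomorphism of groups is surjective: specialisation -/

set_option autoImplicit false
set_option backward.isDefEq.respectTransparency false

universe u

open CategoryTheory CategoryTheory.Limits MonoidalCategory CartesianMonoidalCategory MonObj AlgebraicGeometry
open Groth.Agent.Unibranch Topology

namespace Groth.Agent.SubLocus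

theorem exists_fibreDimAt_const {X S : Scheme.{u}} (f : X ⟶ S) [Smooth f] (x : X) :
    ∃ (W : X.Opens) (n : ℕ), x ∈ W ∧ ∀ z ∈ W, FlatMor.fibreDimAt f z = (n : WithBot ℕ∞) := by
  obtain ⟨V, hV, U, hU, hxU, e, hss⟩ := Smooth.exists_isStandardSmooth f x
  letI : Algebra Γ(S, V) Γ(X, U) := (f.appLE V U e).hom.toAlgebra
  haveI : Algebra.IsStandardSmooth Γ(S, V) Γ(X, U) := hss
  obtain ⟨κ, σ, hσ, hκ, ⟨P⟩⟩ := Algebra.IsStandardSmooth.out (R := Γ(S, V)) (S := Γ(X, U))
  haveI : Algebra.IsStandardSmoothOfRelativeDimension P.dimension Γ(S, V) Γ(X, U) :=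
    ⟨κ, σ, hσ, hκ, P, rfl⟩
  refine ⟨U, P.dimension, hxU, fun z hz => ?_⟩
  obtain ⟨w, rfl⟩ : z ∈ Set.range hU.fromSpec := hU.range_fromSpec.ge hz
  rw [← LocalDimBC.fibreDimAt_openImmersion_comp hU.fromSpec f w,
    ← IsAffineOpen.SpecMap_appLE_fromSpec f hV hU e, ← LocalDimBC.fibreDimAt_comp_openImmersion]
  exact LocalDimBC.fibreDimAt_Spec_of_isStandardSmooth P.dimension (R := Γ(S, V)) (A := Γ(X, U)) w

/-- the generic point of its fibre -/
def IsGen {X S : Scheme.{u}} (f : X ⟶ S) (x : X) : Prop := ∀ x', f x' = f x → x ⤳ x'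

theorem exists_isGen {X S : Scheme.{u}} (f : X ⟶ S) [GeometricallyIrreducible f] (s : S) :
    ∃ x, f x = s ∧ IsGen f x := by
  obtain ⟨ξ, hξ⟩ := QuasiSober.sober (IrreducibleSpace.isIrreducible_univ ↥(f.fiber s)) isClosed_univ
  have hfs : f (f.fiberι s ξ) = s := (f.range_fiberι s).le ⟨ξ, rfl⟩
  refine ⟨f.fiberι s ξ, hfs, fun x' hx' => ?_⟩
  obtain ⟨a, rfl⟩ : x' ∈ Set.range (f.fiberι s) := (f.range_fiberι s).ge (hx'.trans hfs)
  exact (hξ.specializes trivial).map (f.fiberι s).continuous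

theorem IsGen.eq_of_specializes {X S : Scheme.{u}} {f : X ⟶ S} {x x' : X} (h : IsGen f x) (hs : x' ⤳ x)
    (hf : f x' = f x) : x' = x :=
  (hs.antisymm (h x' hf)).eq

theorem IsGen.mem_open {X S : Scheme.{u}} {f : X ⟶ S} {x x' : X} (h : IsGen f x) (hf : f x' = f x)
    {O : X.Opens} (hO : x' ∈ O) : x ∈ O :=
  (h x' hf).mem_open O.2 hO

variable {S : Scheme.{u}} {X Y : Over S} [GrpObj X] [GrpObj Y] (i : Y ⟶ X) [IsMonHom i] [Mono i]
  [LocallyOfFiniteType X.hom] [LocallyOfFiniteType Y.hom] [QuasiCompact i.left]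

omit [GrpObj X] [GrpObj Y] [IsMonHom i] [Mono i] [LocallyOfFiniteType X.hom] [LocallyOfFiniteType Y.hom]
  [QuasiCompact i.left] in
/-- points over which `i` is surjective -/
def E : Set S := {s | ∀ x, X.hom x = s → x ∈ Set.range i.left}

theorem mem_E_of_gen {y : Y.left} (h : IsGen X.hom (i.left y)) : Y.hom y ∈ E i := fun x hx =>
  mem_range_of_specializes i hx (h x (hx.trans (hom_apply i y).symm))

theorem eq_of_fibre {y y' : Y.left} (h : Y.hom y = Y.hom y') (he : i.left y = i.left y') : y = y' :=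
  ((specializes_of_fibre i h (specializes_of_eq he)).antisymm
    (specializes_of_fibre i h.symm (specializes_of_eq he.symm))).eq

variable [GeometricallyIrreducible X.hom] [Smooth X.hom]

set_option maxHeartbeats 1000000 in
/-- the lift of the generic point of a fibre in `E` specialises to lifts of generic points -/
theorem exists_gen_specializes {s' s : S} (hs : s' ⤳ s) (hE : s' ∈ E i) (η' : Y.left)
    (hη : Y.hom η' = s') (hgen : IsGen X.hom (i.left η')) :
    ∃ y : Y.left, Y.hom y = s ∧ IsGen X.hom (i.left y) ∧ η' ⤳ y := by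
  let eY : S ⟶ Y.left := η[Y].left
  let eX : S ⟶ X.left := η[X].left
  have heY : ∀ a, Y.hom (eY a) = a := fun a => congrArg (fun m : S ⟶ S => m a) (Over.w η[Y])
  have heX : ∀ a, X.hom (eX a) = a := fun a => congrArg (fun m : S ⟶ S => m a) (Over.w η[X])
  have hei : ∀ a, i.left (eY a) = eX a := fun a =>
    congrArg (fun m : 𝟙_ (Over S) ⟶ X => m.left a) (IsMonHom.one_hom i)
  have hlift : ∀ y : Y.left, Y.hom y = s' → η' ⤳ y := fun y hy =>
    specializes_of_fibre i (hη.trans hy.symm)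
      (hgen _ (by rw [hom_apply, hom_apply, hy, hη]))
  have h0 : η' ⤳ eY s := (hlift _ (heY s')).trans (hs.map eY.continuous)
  let J := Scheme.IdealSheafData.vanishingIdeal (X := Y.left) ⟨closure {η'}, isClosed_closure⟩
  let k := J.subschemeι
  have hk : Set.range k = closure {η'} := by
    rw [J.range_subschemeι, Scheme.IdealSheafData.coe_support_vanishingIdeal]; rfl
  have hmem : ∀ y, η' ⤳ y → ∃ w, k w = y := fun y hy => hk.ge hy.mem_closure
  let f := k ≫ Y.hom
  have hf : ∀ w, f w = Y.hom (k w) := fun w => rfl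
  obtain ⟨w₀, hw₀⟩ := hmem _ h0
  obtain ⟨Wn, n, hxW, hWn⟩ := exists_fibreDimAt_const X.hom (eX s)
  obtain ⟨U₀, hU₀, hle⟩ := (fibreDimAt_le_iff X.hom (eX s)).mp (hWn _ hxW).le
  rw [heX] at hle
  let Uk := k ⁻¹ᵁ (i.left ⁻¹ᵁ U₀)
  have hw₀U : w₀ ∈ Uk := by
    change i.left (k w₀) ∈ U₀
    rw [hw₀, hei]; exact hU₀
  have hw₀s : f w₀ = s := by rw [hf, hw₀, heY]
  have hchain : HasChain f Uk s n := by
    refine hasChain_of_forall_le ⟨w₀, hw₀U, hw₀s⟩ fun e he => ?_
    obtain ⟨U', hw₀', -, hU'⟩ := exists_opens_chainsLE f hw₀U (hw₀s.symm ▸ he)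
    obtain ⟨O, hO, hO'⟩ := k.isEmbedding.isInducing.isOpen_iff.mp U'.2
    obtain ⟨A, hA, hA'⟩ := (fibre_inducing i s').isOpen_iff.mp
      (hO.preimage (pullback.fst Y.hom (S.fromSpecResidueField s')).continuous)
    have hpt : ∀ y : Y.left, Y.hom y = s' → (i.left y ∈ A ↔ y ∈ O) := by
      intro y hy
      subst hy
      obtain ⟨a, ha⟩ := exists_fibre_point (f := Y.hom) y
      have := Set.ext_iff.mp hA' a
      change (i.left (pullback.fst Y.hom _ a) ∈ A ↔ pullback.fst Y.hom _ a ∈ O) at this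
      rwa [ha] at this
    have h1 : eY s' ∈ O := by
      obtain ⟨w₁, hw₁⟩ := hmem _ (hlift _ (heY s'))
      have : w₁ ⤳ w₀ := k.isEmbedding.isInducing.specializes_iff.mp (by
        rw [hw₁, hw₀]; exact hs.map eY.continuous)
      have h2 : w₁ ∈ (U' : Set J.subscheme) := this.mem_open U'.2 hw₀'
      have h3 : k w₁ ∈ O := (Set.ext_iff.mp hO' w₁).mpr h2
      rwa [hw₁] at h3
    have h2 : eX s' ∈ Wn := (hs.map eX.continuous).mem_open Wn.2 hxW
    obtain ⟨c, hc, hc'⟩ := (natCast_le_fibreDimAt_iff X.hom (eX s')).mp (hWn _ h2).ge ⟨A, hA⟩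
      (show eX s' ∈ A by rw [← hei]; exact (hpt _ (heY s')).mpr h1)
    choose y hy using fun j => hE (c j) ((hc j).2.trans (heX s'))
    have hys : ∀ j, Y.hom (y j) = s' := fun j => by
      rw [← hom_apply i, hy]; exact (hc j).2.trans (heX s')
    choose w hw using fun j => hmem (y j) (hlift _ (hys j))
    refine HasChain.le (f := f) (S := (U' : Set J.subscheme)) (y := s') ⟨w, fun j => ⟨?_, ?_⟩, fun j => ⟨?_, ?_⟩⟩ (hU' s')
    · refine (Set.ext_iff.mp hO' (w j)).mp ?_
      rw [Set.mem_preimage, hw]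
      exact (hpt _ (hys j)).mp (by rw [hy]; exact (hc j).1)
    · rw [hf, hw, hys]
    · refine k.isEmbedding.isInducing.specializes_iff.mp ?_
      rw [hw, hw]
      exact specializes_of_fibre i ((hys _).trans (hys _).symm) (by rw [hy, hy]; exact (hc' j).1)
    · intro e'
      exact (hc' j).2 (by rw [← hy, ← hy, ← hw, ← hw, e'])
  obtain ⟨c, hc, hc'⟩ := hchain
  have hcs : ∀ j, Y.hom (k (c j)) = s := fun j => (hc j).2
  obtain ⟨ξ, hξs, hξ⟩ := exists_isGen X.hom s
  have hxs : ∀ j, X.hom (i.left (k (c j))) = s := fun j => (hom_apply i _).trans (hcs j)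
  refine ⟨k (c 0), hcs 0, ?_, specializes_iff_mem_closure.mpr (hk.le ⟨_, rfl⟩)⟩
  by_contra hne
  have hne' : ξ ≠ i.left (k (c 0)) := fun h => hne (h ▸ hξ)
  have := hle (n + 1) (Fin.cons ξ fun j => i.left (k (c j))) (fun j => ?_) (fun j => ?_)
  · omega
  · refine Fin.cases ?_ (fun j => ?_) j
    · exact ⟨hξ.mem_open ((heX s).trans hξs.symm) hU₀, hξs⟩
    · exact ⟨(hc j).1, hxs j⟩
  · refine Fin.cases ?_ (fun j => ?_) j
    · exact ⟨by simpa using hξ _ ((hxs 0).trans hξs.symm), by simpa using hne'⟩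
    · rw [← Fin.succ_castSucc, Fin.cons_succ, Fin.cons_succ]
      refine ⟨((hc' j).1.map k.continuous).map i.left.continuous, fun e' => (hc' j).2 ?_⟩
      exact k.isEmbedding.injective (eq_of_fibre i ((hcs _).trans (hcs _).symm) e')

omit [GeometricallyIrreducible X.hom] [GrpObj X] [GrpObj Y] [IsMonHom i] [Mono i] [LocallyOfFiniteType Y.hom]
  [LocallyOfFiniteType X.hom] in
/-- the locus where `i` is surjective is constructible -/
theorem isLocallyConstructible_E [QuasiCompact X.hom] [LocallyOfFinitePresentation i.left] :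
    IsLocallyConstructible (E i) := by
  have h1 : IsLocallyConstructible (Set.range i.left) := by
    rw [← Set.image_univ]
    exact i.left.isLocallyConstructible_image IsLocallyConstructible.univ
  have h2 : E i = (X.hom '' (Set.range i.left)ᶜ)ᶜ := by
    ext s
    simp only [E, Set.mem_setOf_eq, Set.mem_compl_iff, Set.mem_image, not_exists, not_and]
    exact ⟨fun h x hx hxs => hx (h x hxs), fun h x hxs => Classical.not_not.mp fun hx => h x hx hxs⟩
  rw [h2]
  exact ConsTop.isLocallyConstructible_compl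
    (X.hom.isLocallyConstructible_image (ConsTop.isLocallyConstructible_compl h1))

/-- the locus where `i` is surjective is closed -/
theorem isClosed_E [QuasiCompact X.hom] [LocallyOfFinitePresentation i.left] : IsClosed (E i) := by
  have hE := isLocallyConstructible_E i
  refine isClosed_of_closure_subset fun s hs => ?_
  obtain ⟨s', hs', hss⟩ := ConsEngine.exists_specializes_of_mem_closure hE hs
  obtain ⟨ξ, hξs, hξ⟩ := exists_isGen X.hom s'
  obtain ⟨η', hη'⟩ := hs' ξ hξs
  obtain ⟨y, hy, hgen, -⟩ := exists_gen_specializes i hss hs' η'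
    (by rw [← hom_apply i, hη', hξs]) (hη' ▸ hξ)
  exact hy ▸ mem_E_of_gen i hgen

end Groth.Agent.SubLocus
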